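import Mathlib
import Groth.Agent.H81.Kun.Defs

set_option autoImplicit false
universe u

/-!
# Subquotient isomorphisms and the connecting isomorphism

Pure linear algebra (helper98), in the hand-rolled setting of `Groth.Agent.H81.Kun.Defs`
(`ℕ`-indexed unbundled families, `cocyc`, `cobdy`, `Hs`).

* `subquot_equiv`  : a linear map `f` carrying `Z` onto `Z'` modulo `B'` with `Z ∩ f⁻¹ B' = Z ∩ B`
  induces `Z/B ≃ Z'/B'`;
* `subquot_equiv_sub` : the same with target a submodule `Z'`;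
* `conn_equiv` : for a surjective chain map `p : X → Y` with kernel the subcomplex `G`, and `X`
  exact in degrees `q+1`, `q+2`: `H^{q+2}(G) ≃ H^{q+1}(Y)`.
-/

namespace Groth.Agent.H98.Kun

open Groth.Agent.H81.Kun

section SubQuot

variable {k : Type*} [CommRing k] {X Y : Type*} [AddCommGroup X] [Module k X]
  [AddCommGroup Y] [Module k Y]

/-- subquotient isomorphism induced by a linear map -/
theorem subquot_equiv (f : X →ₗ[k] Y) (Z B : Submodule k X) (Z' B' : Submodule k Y)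
    (h1 : ∀ z ∈ Z, f z ∈ Z') (h2 : ∀ z' ∈ Z', ∃ z ∈ Z, f z - z' ∈ B')
    (h3 : ∀ z ∈ Z, f z ∈ B' → z ∈ B) (h4 : ∀ b ∈ B, b ∈ Z → f b ∈ B') :
    Nonempty ((↥Z ⧸ B.comap Z.subtype) ≃ₗ[k] (↥Z' ⧸ B'.comap Z'.subtype)) := by
  let φ : ↥Z →ₗ[k] (↥Z' ⧸ B'.comap Z'.subtype) :=
    (B'.comap Z'.subtype).mkQ ∘ₗ (f.restrict h1)
  have hsurj : Function.Surjective φ := by
    intro y
    obtain ⟨⟨z', hz'⟩, rfl⟩ := Submodule.mkQ_surjective _ y
    obtain ⟨z, hz, hzz⟩ := h2 z' hz'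
    refine ⟨⟨z, hz⟩, ?_⟩
    change Submodule.Quotient.mk _ = Submodule.Quotient.mk _
    rw [Submodule.Quotient.eq]
    exact hzz
  have hker : LinearMap.ker φ = B.comap Z.subtype := by
    ext ⟨z, hz⟩
    rw [LinearMap.mem_ker]
    change Submodule.Quotient.mk _ = 0 ↔ _
    rw [Submodule.Quotient.mk_eq_zero]
    change f z ∈ B' ↔ z ∈ B
    exact ⟨h3 z hz, fun hb => h4 z hb hz⟩
  exact ⟨(Submodule.quotEquivOfEq _ _ hker.symm).trans (φ.quotKerEquivOfSurjective hsurj)⟩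

/-- subquotient isomorphism onto a submodule -/
theorem subquot_equiv_sub (f : X →ₗ[k] Y) (Z B : Submodule k X) (Z' : Submodule k Y)
    (h1 : ∀ z ∈ Z, f z ∈ Z') (h2 : ∀ z' ∈ Z', ∃ z ∈ Z, f z = z')
    (h3 : ∀ z ∈ Z, f z = 0 → z ∈ B) (h4 : ∀ b ∈ B, b ∈ Z → f b = 0) :
    Nonempty ((↥Z ⧸ B.comap Z.subtype) ≃ₗ[k] ↥Z') := by
  let φ : ↥Z →ₗ[k] ↥Z' := f.restrict h1
  have hsurj : Function.Surjective φ := by
    rintro ⟨z', hz'⟩
    obtain ⟨z, hz, hzz⟩ := h2 z' hz'
    exact ⟨⟨z, hz⟩, Subtype.ext hzz⟩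
  have hker : LinearMap.ker φ = B.comap Z.subtype := by
    ext ⟨z, hz⟩
    rw [LinearMap.mem_ker, Subtype.ext_iff]
    change f z = 0 ↔ z ∈ B
    exact ⟨h3 z hz, fun hb => h4 z hb hz⟩
  exact ⟨(Submodule.quotEquivOfEq _ _ hker.symm).trans (φ.quotKerEquivOfSurjective hsurj)⟩

/-- a subquotient `Z/B` with `Z ≤ B` is trivial -/
theorem subquot_subsingleton (Z B : Submodule k X) (h : Z ≤ B) :
    Subsingleton (↥Z ⧸ B.comap Z.subtype) := by
  rw [Submodule.Quotient.subsingleton_iff, eq_top_iff]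
  rintro ⟨z, hz⟩ -
  exact h hz

end SubQuot

section Conn

variable {k : Type u} [CommRing k]
variable {X : ℕ → Type u} [∀ n, AddCommGroup (X n)] [∀ n, Module k (X n)]
  {Y : ℕ → Type u} [∀ n, AddCommGroup (Y n)] [∀ n, Module k (Y n)]
  (D : ∀ n, X n →ₗ[k] X (n + 1)) (D' : ∀ n, Y n →ₗ[k] Y (n + 1))
  (p : ∀ n, X n →ₗ[k] Y n)

/-- **Connecting isomorphism.**  `p : X → Y` a surjective chain map with kernel the subcomplex `G`,
`X` exact in degrees `q + 1` and `q + 2`: then `H^{q+2}(G) ≃ H^{q+1}(Y)`. -/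
theorem conn_equiv (hDD : ∀ n x, D (n + 1) (D n x) = 0)
    (hp : ∀ n x, p (n + 1) (D n x) = D' n (p n x))
    (hsurj : ∀ n, Function.Surjective (p n))
    (G : ∀ n, Submodule k (X n)) (hG : ∀ n, G n = LinearMap.ker (p n)) (q : ℕ)
    (hex1 : LinearMap.ker (D (q + 1)) ≤ LinearMap.range (D q))
    (hex2 : LinearMap.ker (D (q + 2)) ≤ LinearMap.range (D (q + 1))) :
    Nonempty (Hs D G (q + 2) ≃ₗ[k] Hs D' (fun _ => ⊤) (q + 1)) := by
  -- the intermediate subquotient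
  let W : Submodule k (X (q + 1)) := (G (q + 2)).comap (D (q + 1))
  let B : Submodule k (X (q + 1)) := G (q + 1) ⊔ LinearMap.ker (D (q + 1))
  have hmemG : ∀ n x, x ∈ G n ↔ p n x = 0 := by
    intro n x
    rw [hG n, LinearMap.mem_ker]
  obtain ⟨α⟩ := subquot_equiv (D (q + 1)) W B (cocyc D G (q + 2)) (cobdy D G (q + 2))
    (by
      intro w hw
      exact ⟨hw, LinearMap.mem_ker.2 (hDD _ _)⟩)
    (by
      rintro z' ⟨hz'G, hz'k⟩
      obtain ⟨x, rfl⟩ := hex2 hz'k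
      exact ⟨x, hz'G, by rw [sub_self]; exact Submodule.zero_mem _⟩)
    (by
      intro w _ hw
      obtain ⟨g, hg, hgw⟩ := hw
      have : w = g + (w - g) := by abel
      rw [this]
      refine Submodule.add_mem _ (Submodule.mem_sup_left hg) (Submodule.mem_sup_right ?_)
      rw [LinearMap.mem_ker, map_sub, hgw, sub_self])
    (by
      intro b hb _
      obtain ⟨g, hg, z, hz, rfl⟩ := Submodule.mem_sup.1 hb
      rw [LinearMap.mem_ker] at hz
      rw [map_add, hz, add_zero]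
      exact ⟨g, hg, rfl⟩)
  obtain ⟨β⟩ := subquot_equiv (p (q + 1)) W B (cocyc D' (fun _ => ⊤) (q + 1))
    (cobdy D' (fun _ => ⊤) (q + 1))
    (by
      intro w hw
      refine ⟨Submodule.mem_top, ?_⟩
      change D' (q + 1) (p (q + 1) w) = 0
      rw [← hp]
      exact (hmemG _ _).1 hw)
    (by
      rintro y ⟨-, hy⟩
      change D' (q + 1) y = 0 at hy
      obtain ⟨x, rfl⟩ := hsurj (q + 1) y
      refine ⟨x, ?_, by rw [sub_self]; exact Submodule.zero_mem _⟩
      change D (q + 1) x ∈ G (q + 2)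
      rw [hmemG, hp, hy])
    (by
      intro w _ hw
      obtain ⟨y', -, hy'⟩ := hw
      obtain ⟨x', rfl⟩ := hsurj q y'
      rw [← hp] at hy'
      have : w = (w - D q x') + D q x' := by abel
      rw [this]
      refine Submodule.add_mem _ (Submodule.mem_sup_left ?_) (Submodule.mem_sup_right ?_)
      · rw [hmemG, map_sub, hy', sub_self]
      · rw [LinearMap.mem_ker]
        exact hDD _ _)
    (by
      intro b hb _
      obtain ⟨g, hg, z, hz, rfl⟩ := Submodule.mem_sup.1 hb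
      obtain ⟨x', rfl⟩ := hex1 hz
      rw [map_add, (hmemG _ _).1 hg, zero_add, hp]
      exact ⟨p q x', Submodule.mem_top, rfl⟩)
  exact ⟨α.symm.trans β⟩

end Conn

end Groth.Agent.H98.Kun
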