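import Mathlib
import Groth.Agent.H81.Kun.Defs
import Groth.Agent.H98.Kun.SubQuot

set_option autoImplicit false
universe u

/-!
# Hodge data of an `ℕ`-indexed complex of vector spaces

`HData D` : a contracting homotopy `K` onto an idempotent chain endomorphism `Q` with
`D Q = 0 = Q D` (`Q` projects onto "harmonic" representatives of the cohomology).

* `exists_hdata` : over a field every complex has Hodge data;
* `HData.equiv_range` : `H^n ≃ range (Q n)`;
* `HData.Q_eq_zero_of_exact`, `HData.eq_Q_of_mem_ker_zero`, `HData.exact_of_Q_eq_zero`.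
-/

namespace Groth.Agent.H98.Kun

open Groth.Agent.H81.Kun

/-- Hodge data of a complex -/
structure HData {k : Type u} [CommRing k] {X : ℕ → Type u} [∀ n, AddCommGroup (X n)]
    [∀ n, Module k (X n)] (D : ∀ n, X n →ₗ[k] X (n + 1)) where
  /-- the homotopy -/
  K : ∀ n, X (n + 1) →ₗ[k] X n
  /-- the harmonic projector -/
  Q : ∀ n, X n →ₗ[k] X n
  DQ : ∀ n x, D n (Q n x) = 0
  QD : ∀ n x, Q (n + 1) (D n x) = 0
  QQ : ∀ n x, Q n (Q n x) = Q n x
  hom0 : ∀ x, x - Q 0 x = K 0 (D 0 x)
  homS : ∀ m x, x - Q (m + 1) x = D m (K m x) + K (m + 1) (D (m + 1) x)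

section Field

variable {k : Type u} [Field k] {X : ℕ → Type u} [∀ n, AddCommGroup (X n)]
  [∀ n, Module k (X n)] (D : ∀ n, X n →ₗ[k] X (n + 1))

/-- a reflexive generalized inverse of a linear map of vector spaces -/
theorem exists_ginv {V W : Type*} [AddCommGroup V] [Module k V] [AddCommGroup W] [Module k W]
    (d : V →ₗ[k] W) :
    ∃ g : W →ₗ[k] V, (∀ x, d (g (d x)) = d x) ∧ ∀ y, g (d (g y)) = g y := by
  obtain ⟨s, hs⟩ := d.rangeRestrict.exists_rightInverse_of_surjective d.range_rangeRestrict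
  obtain ⟨r, hr⟩ := (LinearMap.range d).subtype.exists_leftInverse_of_injective
    (Submodule.ker_subtype _)
  have hs' : ∀ z : LinearMap.range d, d (s z) = z.1 := by
    intro z
    have := LinearMap.congr_fun hs z
    exact congrArg Subtype.val this
  have hr' : ∀ z : LinearMap.range d, r z.1 = z := fun z => LinearMap.congr_fun hr z
  refine ⟨s ∘ₗ r, ?_, ?_⟩
  · intro x
    have := hr' ⟨d x, ⟨x, rfl⟩⟩
    rw [LinearMap.comp_apply, this, hs']
  · intro y
    rw [LinearMap.comp_apply, LinearMap.comp_apply, hs', hr']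

/-- **Existence of Hodge data** over a field -/
theorem exists_hdata (hDD : ∀ n x, D (n + 1) (D n x) = 0) : Nonempty (HData D) := by
  choose g hg1 hg2 using fun n => exists_ginv (D n)
  -- the normalized homotopy
  let h : ∀ n, X (n + 1) →ₗ[k] X n := fun n =>
    g n ∘ₗ (LinearMap.id - g (n + 1) ∘ₗ D (n + 1))
  have h_apply : ∀ n y, h n y = g n (y - g (n + 1) (D (n + 1) y)) := fun n y => rfl
  have dhd : ∀ n x, D n (h n (D n x)) = D n x := by
    intro n x
    rw [h_apply, hDD, map_zero, sub_zero, hg1]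
  have hh : ∀ n x, h n (h (n + 1) x) = 0 := by
    intro n x
    rw [h_apply n, h_apply (n + 1), hg2, sub_self, map_zero]
  let Q : ∀ n, X n →ₗ[k] X n := fun n =>
    match n with
    | 0 => LinearMap.id - h 0 ∘ₗ D 0
    | m + 1 => LinearMap.id - D m ∘ₗ h m - h (m + 1) ∘ₗ D (m + 1)
  have Q0 : ∀ x, Q 0 x = x - h 0 (D 0 x) := fun x => rfl
  have QS : ∀ m x, Q (m + 1) x = x - D m (h m x) - h (m + 1) (D (m + 1) x) := fun m x => rfl
  have DQ : ∀ n x, D n (Q n x) = 0 := by
    intro n x
    cases n with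
    | zero => rw [Q0, map_sub, dhd, sub_self]
    | succ m => rw [QS, map_sub, map_sub, hDD, dhd, sub_zero, sub_self]
  have QD : ∀ n x, Q (n + 1) (D n x) = 0 := by
    intro n x
    rw [QS, dhd, hDD, map_zero, sub_self, sub_zero]
  refine ⟨⟨h, Q, DQ, QD, ?_, ?_, ?_⟩⟩
  · intro n x
    cases n with
    | zero =>
      rw [Q0 (Q 0 x), DQ, map_zero, sub_zero]
    | succ m =>
      have h1 : h m (Q (m + 1) x) = h m x - h m (D m (h m x)) := by
        rw [QS, map_sub, map_sub, hh, sub_zero]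
      rw [QS m (Q (m + 1) x), DQ, map_zero, sub_zero, h1, map_sub, dhd, sub_self, sub_zero]
  · intro x
    rw [Q0]
    abel
  · intro m x
    rw [QS]
    abel

end Field

namespace HData

variable {k : Type u} [CommRing k] {X : ℕ → Type u} [∀ n, AddCommGroup (X n)]
  [∀ n, Module k (X n)] {D : ∀ n, X n →ₗ[k] X (n + 1)} (H : HData D)

include H in
/-- a cocycle of degree `0` is harmonic -/
theorem eq_Q_of_mem_ker_zero (x : X 0) (hx : D 0 x = 0) : H.Q 0 x = x := by
  have := H.hom0 x
  rw [hx, map_zero, sub_eq_zero] at this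
  exact this.symm

include H in
/-- a cocycle killed by `Q` is a coboundary -/
theorem eq_D_of_mem_ker (m : ℕ) (x : X (m + 1)) (hx : D (m + 1) x = 0)
    (hQ : H.Q (m + 1) x = 0) : x = D m (H.K m x) := by
  have := H.homS m x
  rw [hx, map_zero, add_zero, hQ, sub_zero] at this
  exact this

include H in
/-- if the complex is exact at `m + 1` then `Q (m + 1) = 0` -/
theorem Q_eq_zero_of_exact (m : ℕ) (hex : LinearMap.ker (D (m + 1)) ≤ LinearMap.range (D m))
    (x : X (m + 1)) : H.Q (m + 1) x = 0 := by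
  have h1 : H.Q (m + 1) x ∈ LinearMap.ker (D (m + 1)) := LinearMap.mem_ker.2 (H.DQ _ _)
  obtain ⟨y, hy⟩ := hex h1
  rw [← H.QQ, ← hy, H.QD]

include H in
/-- if `Q (m + 1) = 0` then the complex is exact at `m + 1` -/
theorem exact_of_Q_eq_zero (m : ℕ) (hQ : ∀ x, H.Q (m + 1) x = 0) :
    LinearMap.ker (D (m + 1)) ≤ LinearMap.range (D m) := by
  intro x hx
  exact ⟨H.K m x, (H.eq_D_of_mem_ker m x (LinearMap.mem_ker.1 hx) (hQ x)).symm⟩

include H in
/-- the range of `Q 0` is the kernel of `D 0` -/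
theorem range_Q_zero : LinearMap.range (H.Q 0) = LinearMap.ker (D 0) := by
  apply le_antisymm
  · rintro _ ⟨x, rfl⟩
    exact LinearMap.mem_ker.2 (H.DQ 0 x)
  · intro x hx
    exact ⟨x, H.eq_Q_of_mem_ker_zero x (LinearMap.mem_ker.1 hx)⟩

include H in
/-- **cohomology is the range of the harmonic projector** -/
theorem equiv_range (n : ℕ) :
    Nonempty (Hs D (fun _ => ⊤) n ≃ₗ[k] ↥(LinearMap.range (H.Q n))) := by
  apply subquot_equiv_sub (H.Q n)
  · intro z _
    exact ⟨z, rfl⟩
  · rintro _ ⟨w, rfl⟩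
    exact ⟨H.Q n w, ⟨Submodule.mem_top, LinearMap.mem_ker.2 (H.DQ n _)⟩, H.QQ n w⟩
  · rintro z ⟨-, hz⟩ hQ
    have hz' : D n z = 0 := hz
    cases n with
    | zero =>
      have := H.eq_Q_of_mem_ker_zero z hz'
      rw [hQ] at this
      rw [← this]
      exact Submodule.zero_mem _
    | succ m =>
      exact ⟨H.K m z, Submodule.mem_top, (H.eq_D_of_mem_ker m z hz' hQ).symm⟩
  · intro b hb _
    cases n with
    | zero =>
      have : b = 0 := hb
      rw [this, map_zero]
    | succ m =>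
      obtain ⟨y, -, rfl⟩ := hb
      exact H.QD m y

end HData

end Groth.Agent.H98.Kun
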