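import Mathlib
import Groth.Agent.H81.Kun.Defs
import Groth.Agent.H98.Kun.HData

set_option autoImplicit false
set_option linter.unusedSimpArgs false
universe u

/-!
# Künneth formula over a field for the total complex of `H81.Kun.Defs`

* `TotMap_surjective`, `TotMap_injective` (over a field);
* `totHData HA HB : HData (TotD dA dB)` with `Q n = TotMap HA.Q HB.Q n`;
* `finrank_Hs_tot` : `dim H^n(Tot(A ⊗ B)) = ∑_{a+b=n} dim H^a(A) · dim H^b(B)`
  (all cohomology groups finite dimensional).
-/

namespace Groth.Agent.H98.Kun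

open Groth.Agent.H81.Kun
open scoped TensorProduct

section Maps

variable {k : Type u} [CommRing k]
variable {A : ℕ → Type u} [∀ a, AddCommGroup (A a)] [∀ a, Module k (A a)]
  {B : ℕ → Type u} [∀ b, AddCommGroup (B b)] [∀ b, Module k (B b)]
  {A' : ℕ → Type u} [∀ a, AddCommGroup (A' a)] [∀ a, Module k (A' a)]
  {B' : ℕ → Type u} [∀ b, AddCommGroup (B' b)] [∀ b, Module k (B' b)]

theorem TotMap_surjective (f : ∀ a, A a →ₗ[k] A' a) (g : ∀ b, B b →ₗ[k] B' b)
    (hf : ∀ a, Function.Surjective (f a)) (hg : ∀ b, Function.Surjective (g b)) (n : ℕ) :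
    Function.Surjective (TotMap f g n) := by
  intro w
  have := fun p : Idx n => TensorProduct.map_surjective (hf p.1.1) (hg p.1.2) (w p)
  choose v hv using this
  refine ⟨v, ?_⟩
  funext p
  rw [TotMap_apply, hv]

theorem TotMap_injective_of_flat [∀ a, Module.Flat k (A a)] [∀ a, Module.Flat k (A' a)]
    [∀ b, Module.Flat k (B b)] [∀ b, Module.Flat k (B' b)]
    (f : ∀ a, A a →ₗ[k] A' a) (g : ∀ b, B b →ₗ[k] B' b)
    (hf : ∀ a, Function.Injective (f a)) (hg : ∀ b, Function.Injective (g b)) (n : ℕ) :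
    Function.Injective (TotMap f g n) := by
  intro w w' h
  funext p
  have := congrFun h p
  rw [TotMap_apply, TotMap_apply] at this
  exact TensorProduct.map_injective_of_flat_flat (f p.1.1) (g p.1.2) (hf _) (hg _) this

/-- `TotMap` only depends on the maps as functions -/
theorem TotMap_congr (f f' : ∀ a, A a →ₗ[k] A' a) (g g' : ∀ b, B b →ₗ[k] B' b)
    (hf : ∀ a x, f a x = f' a x) (hg : ∀ b y, g b y = g' b y) (n : ℕ) (w : TotX k A B n) :
    TotMap f g n w = TotMap f' g' n w := by
  have h1 : f = f' := funext fun a => LinearMap.ext (hf a)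
  have h2 : g = g' := funext fun b => LinearMap.ext (hg b)
  rw [h1, h2]

/-- in degree `0` only the maps of degree `0` matter -/
theorem TotMap_zero_congr (f f' : ∀ a, A a →ₗ[k] A' a) (g g' : ∀ b, B b →ₗ[k] B' b)
    (hf : ∀ x, f 0 x = f' 0 x) (hg : ∀ y, g 0 y = g' 0 y) (w : TotX k A B 0) :
    TotMap f g 0 w = TotMap f' g' 0 w := by
  funext p
  obtain ⟨⟨a, b⟩, h⟩ := p
  have ha : a = 0 := by
    have : a + b = 0 := h
    omega
  have hb : b = 0 := by
    have : a + b = 0 := h
    omega
  subst ha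
  subst hb
  rw [TotMap_apply, TotMap_apply]
  have h1 : f 0 = f' 0 := LinearMap.ext hf
  have h2 : g 0 = g' 0 := LinearMap.ext hg
  change TensorProduct.map (f 0) (g 0) _ = TensorProduct.map (f' 0) (g' 0) _
  rw [h1, h2]

/-- if in each bidegree `(a, b)` with `a + b = n` one of the maps vanishes, `TotMap` vanishes -/
theorem TotMap_eq_zero (f : ∀ a, A a →ₗ[k] A' a) (g : ∀ b, B b →ₗ[k] B' b) (n : ℕ)
    (h : ∀ a b, a + b = n → (f a = 0 ∨ g b = 0)) (w : TotX k A B n) :
    TotMap f g n w = 0 := by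
  funext p
  rw [TotMap_apply]
  rcases h p.1.1 p.1.2 p.2 with h0 | h0
  · rw [h0, TensorProduct.map_zero_left]
    rfl
  · rw [h0, TensorProduct.map_zero_right]
    rfl

end Maps

section TotHData

variable {k : Type u} [CommRing k]
variable {A : ℕ → Type u} [∀ a, AddCommGroup (A a)] [∀ a, Module k (A a)]
  {B : ℕ → Type u} [∀ b, AddCommGroup (B b)] [∀ b, Module k (B b)]
  {dA : ∀ a, A a →ₗ[k] A (a + 1)} {dB : ∀ b, B b →ₗ[k] B (b + 1)}
  (HA : HData dA) (HB : HData dB)

/-- first half of the homotopy: `K x ⊗ y` -/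
noncomputable def K1 : (a b n : ℕ) → a + b = n + 1 → (A a ⊗[k] B b →ₗ[k] TotX k A B n)
  | 0, _, _, _ => 0
  | a + 1, b, _, h => inc (show a + b = _ by omega) ∘ₗ (HA.K a).rTensor (B b)

/-- second half of the homotopy: `(-1)^a Q x ⊗ K y` -/
noncomputable def K2 : (a b n : ℕ) → a + b = n + 1 → (A a ⊗[k] B b →ₗ[k] TotX k A B n)
  | _, 0, _, _ => 0
  | a, b + 1, _, h =>
    ((-1 : k) ^ a) • (inc (show a + b = _ by omega) ∘ₗ TensorProduct.map (HA.Q a) (HB.K b))

/-- the homotopy of the total complex -/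
noncomputable def TotK (n : ℕ) : TotX k A B (n + 1) →ₗ[k] TotX k A B n :=
  ∑ p : Idx (n + 1), (K1 HA p.1.1 p.1.2 n p.2 + K2 HA HB p.1.1 p.1.2 n p.2) ∘ₗ LinearMap.proj p

theorem TotK_inc {a b n : ℕ} (h : a + b = n + 1) (t : A a ⊗[k] B b) :
    TotK HA HB n (inc h t) = K1 HA a b n h t + K2 HA HB a b n h t := by
  unfold TotK
  rw [LinearMap.sum_apply, Finset.sum_eq_single (⟨(a, b), h⟩ : Idx (n + 1))]
  · simp only [LinearMap.comp_apply, LinearMap.proj_apply, inc_apply_same, LinearMap.add_apply]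
  · intro p _ hp
    rw [LinearMap.comp_apply, LinearMap.proj_apply, inc_apply_ne h t p hp, map_zero]
  · intro hq
    exact absurd (Finset.mem_univ _) hq

theorem K1_zero (b n : ℕ) (h : 0 + b = n + 1) (t : A 0 ⊗[k] B b) : K1 HA 0 b n h t = 0 := rfl

theorem K1_succ (a b n : ℕ) (h : a + 1 + b = n + 1) (x : A (a + 1)) (y : B b) :
    K1 HA (a + 1) b n h (x ⊗ₜ[k] y) = inc (show a + b = n by omega) (HA.K a x ⊗ₜ[k] y) := rfl

theorem K2_zero (a n : ℕ) (h : a + 0 = n + 1) (t : A a ⊗[k] B 0) : K2 HA HB a 0 n h t = 0 := by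
  cases a <;> rfl

theorem K2_succ (a b n : ℕ) (h : a + (b + 1) = n + 1) (x : A a) (y : B (b + 1)) :
    K2 HA HB a (b + 1) n h (x ⊗ₜ[k] y) =
      ((-1 : k) ^ a) • inc (show a + b = n by omega) (HA.Q a x ⊗ₜ[k] HB.K b y) := by
  cases a <;> rfl

theorem neg_one_pow_mul_self' (a : ℕ) : ((-1 : k) ^ a) * ((-1 : k) ^ a) = 1 := by
  rw [← mul_pow]
  simp

/-- `D Q = 0` on the total complex -/
theorem tot_DQ (n : ℕ) (w : TotX k A B n) :
    TotD dA dB n (TotMap HA.Q HB.Q n w) = 0 := by
  have key : TotD dA dB n ∘ₗ TotMap HA.Q HB.Q n = 0 := by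
    apply hom_ext
    intro a b hab x y
    rw [LinearMap.comp_apply, TotMap_inc, TensorProduct.map_tmul, TotD_inc_tmul, HA.DQ, HB.DQ,
      TensorProduct.zero_tmul, TensorProduct.tmul_zero, map_zero, map_zero, smul_zero, add_zero,
      LinearMap.zero_apply]
  exact LinearMap.congr_fun key w

/-- `Q D = 0` on the total complex -/
theorem tot_QD (n : ℕ) (w : TotX k A B n) :
    TotMap HA.Q HB.Q (n + 1) (TotD dA dB n w) = 0 := by
  have key : TotMap HA.Q HB.Q (n + 1) ∘ₗ TotD dA dB n = 0 := by
    apply hom_ext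
    intro a b hab x y
    rw [LinearMap.comp_apply, TotD_inc_tmul, map_add, map_smul, TotMap_inc, TotMap_inc,
      TensorProduct.map_tmul, TensorProduct.map_tmul, HA.QD, HB.QD,
      TensorProduct.zero_tmul, TensorProduct.tmul_zero, map_zero, map_zero, smul_zero, add_zero,
      LinearMap.zero_apply]
  exact LinearMap.congr_fun key w

/-- `Q Q = Q` on the total complex -/
theorem tot_QQ (n : ℕ) (w : TotX k A B n) :
    TotMap HA.Q HB.Q n (TotMap HA.Q HB.Q n w) = TotMap HA.Q HB.Q n w := by
  rw [TotMap_comp]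
  apply TotMap_congr
  · intro a x
    exact HA.QQ a x
  · intro b y
    exact HB.QQ b y

/-- the homotopy identity in degree `0` -/
theorem tot_hom0 (w : TotX k A B 0) :
    w - TotMap HA.Q HB.Q 0 w = TotK HA HB 0 (TotD dA dB 0 w) := by
  have key : LinearMap.id - TotMap HA.Q HB.Q 0 = TotK HA HB 0 ∘ₗ TotD dA dB 0 := by
    apply hom_ext
    intro a b hab x y
    have ha : a = 0 := by omega
    have hb : b = 0 := by omega
    subst ha
    subst hb
    rw [LinearMap.sub_apply, LinearMap.id_apply, LinearMap.comp_apply, TotMap_inc,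
      TensorProduct.map_tmul, TotD_inc_tmul, map_add, map_smul, TotK_inc, TotK_inc, K1_succ,
      K2_zero, K1_zero, K2_succ, ← HA.hom0, ← HB.hom0, pow_zero, one_smul, one_smul,
      TensorProduct.sub_tmul, TensorProduct.tmul_sub, map_sub, map_sub]
    abel
  exact LinearMap.congr_fun key w

/-- the homotopy identity in positive degrees -/
theorem tot_homS (m : ℕ) (w : TotX k A B (m + 1)) :
    w - TotMap HA.Q HB.Q (m + 1) w =
      TotD dA dB m (TotK HA HB m w) + TotK HA HB (m + 1) (TotD dA dB (m + 1) w) := by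
  have key : LinearMap.id - TotMap HA.Q HB.Q (m + 1) =
      TotD dA dB m ∘ₗ TotK HA HB m + TotK HA HB (m + 1) ∘ₗ TotD dA dB (m + 1) := by
    apply hom_ext
    intro a b hab x y
    rw [LinearMap.sub_apply, LinearMap.id_apply, LinearMap.add_apply, LinearMap.comp_apply,
      LinearMap.comp_apply, TotMap_inc, TensorProduct.map_tmul, TotD_inc_tmul, map_add, map_smul,
      TotK_inc, TotK_inc, TotK_inc]
    cases a with
    | zero =>
      have hb : b = m + 1 := by omega
      subst hb
      have e : HB.K (m + 1) (dB (m + 1) y) = y - HB.Q (m + 1) y - dB m (HB.K m y) := by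
        rw [HB.homS]
        abel
      rw [K1_zero, K2_succ, K1_succ, K2_succ, K1_zero, K2_succ, ← HA.hom0, HA.QD, e]
      simp only [zero_add, map_smul, map_add, TotD_inc_tmul, HA.DQ, HB.DQ, TensorProduct.zero_tmul,
        TensorProduct.tmul_zero, map_zero, smul_zero, add_zero, pow_zero, one_smul,
        TensorProduct.sub_tmul, TensorProduct.tmul_sub, map_sub]
      abel
    | succ a' =>
      cases b with
      | zero =>
        have ha : a' = m := by omega
        subst ha
        have e : HA.K (a' + 1) (dA (a' + 1) x) = x - HA.Q (a' + 1) x - dA a' (HA.K a' x) := by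
          rw [HA.homS]
          abel
        rw [K1_succ, K2_zero, K1_succ, K2_zero, K1_succ, K2_succ, ← HB.hom0, e]
        simp only [zero_add, map_smul, map_add, TotD_inc_tmul, HA.DQ, HB.DQ, HA.QD, HB.QD,
          TensorProduct.zero_tmul,
          TensorProduct.tmul_zero, map_zero, smul_zero, add_zero, pow_zero, one_smul,
          TensorProduct.sub_tmul, TensorProduct.tmul_sub, map_sub, smul_add, smul_sub, smul_smul,
          neg_one_pow_mul_self']
        rw [pow_succ, mul_neg_one, neg_smul]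
        abel
      | succ b' =>
        have hm : m = a' + b' + 1 := by omega
        subst hm
        have e : HA.K (a' + 1) (dA (a' + 1) x) = x - HA.Q (a' + 1) x - dA a' (HA.K a' x) := by
          rw [HA.homS]
          abel
        have e' : HB.K (b' + 1) (dB (b' + 1) y) = y - HB.Q (b' + 1) y - dB b' (HB.K b' y) := by
          rw [HB.homS]
          abel
        rw [K1_succ, K2_succ, K1_succ, K2_succ, K1_succ, K2_succ, e, e']
        simp only [zero_add, map_smul, map_add, TotD_inc_tmul, HA.DQ, HB.DQ, HA.QD, HB.QD,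
          TensorProduct.zero_tmul,
          TensorProduct.tmul_zero, map_zero, smul_zero, add_zero, pow_zero, one_smul,
          TensorProduct.sub_tmul, TensorProduct.tmul_sub, map_sub, smul_add, smul_sub, smul_smul,
          neg_one_pow_mul_self']
        rw [pow_succ, mul_neg_one, neg_smul]
        abel
  exact LinearMap.congr_fun key w

/-- **Hodge data of the total complex** -/
noncomputable def totHData : HData (TotD dA dB) where
  K := TotK HA HB
  Q := TotMap HA.Q HB.Q
  DQ := tot_DQ HA HB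
  QD := tot_QD HA HB
  QQ := tot_QQ HA HB
  hom0 := tot_hom0 HA HB
  homS := tot_homS HA HB

@[simp] theorem totHData_Q (n : ℕ) : (totHData HA HB).Q n = TotMap HA.Q HB.Q n := rfl

end TotHData

section Kunneth

variable {k : Type u} [Field k]
variable {A : ℕ → Type u} [∀ a, AddCommGroup (A a)] [∀ a, Module k (A a)]
  {B : ℕ → Type u} [∀ b, AddCommGroup (B b)] [∀ b, Module k (B b)]

/-- the range of `TotMap f g n` is the total space of the ranges -/
theorem range_TotMap_equiv (f : ∀ a, A a →ₗ[k] A a) (g : ∀ b, B b →ₗ[k] B b) (n : ℕ) :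
    Nonempty (↥(LinearMap.range (TotMap f g n)) ≃ₗ[k]
      TotX k (fun a => ↥(LinearMap.range (f a))) (fun b => ↥(LinearMap.range (g b))) n) := by
  let ι := TotMap (fun a => (LinearMap.range (f a)).subtype)
    (fun b => (LinearMap.range (g b)).subtype) n
  have hι : Function.Injective ι :=
    TotMap_injective_of_flat _ _ (fun a => Submodule.subtype_injective _)
      (fun b => Submodule.subtype_injective _) n
  have hr : LinearMap.range (TotMap f g n) = LinearMap.range ι := by
    apply le_antisymm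
    · rintro _ ⟨w, rfl⟩
      refine ⟨TotMap (fun a => (f a).rangeRestrict) (fun b => (g b).rangeRestrict) n w, ?_⟩
      rw [TotMap_comp]
      rfl
    · rintro _ ⟨w, rfl⟩
      obtain ⟨v, rfl⟩ := TotMap_surjective (fun a => (f a).rangeRestrict)
        (fun b => (g b).rangeRestrict) (fun a => LinearMap.surjective_rangeRestrict _)
        (fun b => LinearMap.surjective_rangeRestrict _) n w
      refine ⟨v, ?_⟩
      rw [TotMap_comp]
      rfl
  exact ⟨(LinearEquiv.ofEq _ _ hr).trans (LinearEquiv.ofInjective ι hι).symm⟩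

/-- dimension of `TotX` -/
theorem finrank_TotX (A : ℕ → Type u) [∀ a, AddCommGroup (A a)] [∀ a, Module k (A a)]
    (B : ℕ → Type u) [∀ b, AddCommGroup (B b)] [∀ b, Module k (B b)]
    [∀ a, Module.Finite k (A a)] [∀ b, Module.Finite k (B b)] (n : ℕ) :
    Module.finrank k (TotX k A B n) =
      ∑ p : Idx n, Module.finrank k (A p.1.1) * Module.finrank k (B p.1.2) := by
  rw [Module.finrank_pi_fintype]
  apply Finset.sum_congr rfl
  intro p _
  rw [Module.finrank_tensorProduct]

variable {dA : ∀ a, A a →ₗ[k] A (a + 1)} {dB : ∀ b, B b →ₗ[k] B (b + 1)}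

/-- **Künneth formula** (dimensions) -/
theorem finrank_Hs_tot (hdA : ∀ a x, dA (a + 1) (dA a x) = 0)
    (hdB : ∀ b y, dB (b + 1) (dB b y) = 0)
    (hfA : ∀ a, Module.Finite k (Hs dA (fun _ => ⊤) a))
    (hfB : ∀ b, Module.Finite k (Hs dB (fun _ => ⊤) b)) (n : ℕ) :
    Module.Finite k (Hs (TotD dA dB) (fun _ => ⊤) n) ∧
    Module.finrank k (Hs (TotD dA dB) (fun _ => ⊤) n) =
      ∑ p : Idx n, Module.finrank k (Hs dA (fun _ => ⊤) p.1.1) *
        Module.finrank k (Hs dB (fun _ => ⊤) p.1.2) := by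
  obtain ⟨HA⟩ := exists_hdata dA hdA
  obtain ⟨HB⟩ := exists_hdata dB hdB
  have eA := fun a => (HA.equiv_range a).some
  have eB := fun b => (HB.equiv_range b).some
  haveI : ∀ a, Module.Finite k ↥(LinearMap.range (HA.Q a)) := fun a =>
    Module.Finite.equiv (eA a)
  haveI : ∀ b, Module.Finite k ↥(LinearMap.range (HB.Q b)) := fun b =>
    Module.Finite.equiv (eB b)
  obtain ⟨e1⟩ := (totHData HA HB).equiv_range n
  obtain ⟨e2⟩ := range_TotMap_equiv HA.Q HB.Q n
  have e := e1.trans e2
  refine ⟨Module.Finite.equiv e.symm, ?_⟩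
  rw [e.finrank_eq, finrank_TotX]
  apply Finset.sum_congr rfl
  intro p _
  rw [(eA p.1.1).finrank_eq, (eB p.1.2).finrank_eq]

end Kunneth

end Groth.Agent.H98.Kun
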