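import Mathlib
import Groth.Agent.H81.Kun.Defs
import Groth.Agent.H98.Kun.TotH

set_option autoImplicit false
set_option linter.unusedSimpArgs false
universe u

/-!
# A resolution `U`, a subcomplex `U'` and the quotient complex `U/U'`

`U` exact in positive degrees, `H^0(U') = H^1(U') = 0`.  Then `H^0(U/U') = ker (dU 0)`,
`H^{a+1}(U/U') = H^{a+2}(U')`, and there is a linear section `σ : U_0/U'_0 → U_0` landing in
`ker (dU 0)` and lifting the harmonic projector.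
-/

namespace Groth.Agent.H98.Kun

open Groth.Agent.H81.Kun
open scoped TensorProduct

section Quot

variable {k : Type u} [Field k] {U : ℕ → Type u} [∀ a, AddCommGroup (U a)] [∀ a, Module k (U a)]
  (dU : ∀ a, U a →ₗ[k] U (a + 1)) (U' : ∀ a, Submodule k (U a))
  (hU' : ∀ a x, x ∈ U' a → dU a x ∈ U' (a + 1))

/-- the differential of the quotient complex -/
noncomputable def qd (a : ℕ) : (U a ⧸ U' a) →ₗ[k] (U (a + 1) ⧸ U' (a + 1)) :=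
  (U' a).mapQ (U' (a + 1)) (dU a) (fun x hx => hU' a x hx)

theorem qd_mk (a : ℕ) (x : U a) :
    qd dU U' hU' a ((U' a).mkQ x) = (U' (a + 1)).mkQ (dU a x) := rfl

theorem qd_qd (hdU : ∀ a x, dU (a + 1) (dU a x) = 0) (a : ℕ) (y : U a ⧸ U' a) :
    qd dU U' hU' (a + 1) (qd dU U' hU' a y) = 0 := by
  obtain ⟨x, rfl⟩ := Submodule.mkQ_surjective _ y
  rw [qd_mk, qd_mk, hdU, map_zero]

/-- `H^0(U') = 0` -/
theorem subsingleton_Hs_zero (hU0 : ∀ x ∈ U' 0, dU 0 x = 0 → x = 0) :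
    Subsingleton (Hs dU U' 0) := by
  have : Subsingleton ↥(cocyc dU U' 0) := by
    refine ⟨fun x y => ?_⟩
    have hx : x.1 = 0 := hU0 x.1 x.2.1 (LinearMap.mem_ker.1 x.2.2)
    have hy : y.1 = 0 := hU0 y.1 y.2.1 (LinearMap.mem_ker.1 y.2.2)
    exact Subtype.ext (hx.trans hy.symm)
  infer_instance

/-- `H^1(U') = 0` -/
theorem subsingleton_Hs_one (hU1 : ∀ x ∈ U' 1, dU 1 x = 0 → ∃ y ∈ U' 0, dU 0 y = x) :
    Subsingleton (Hs dU U' 1) := by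
  apply subquot_subsingleton
  rintro x ⟨hx1, hx2⟩
  obtain ⟨y, hy, rfl⟩ := hU1 x hx1 (LinearMap.mem_ker.1 hx2)
  exact ⟨y, hy, rfl⟩

/-- `H^{a+2}(U') ≃ H^{a+1}(U/U')` for a resolution `U` -/
theorem Hs_succ_equiv (hdU : ∀ a x, dU (a + 1) (dU a x) = 0)
    (hexU : ∀ a, LinearMap.ker (dU (a + 1)) = LinearMap.range (dU a)) (a : ℕ) :
    Nonempty (Hs dU U' (a + 2) ≃ₗ[k] Hs (qd dU U' hU') (fun _ => ⊤) (a + 1)) :=
  conn_equiv dU (qd dU U' hU') (fun n => (U' n).mkQ) hdU (fun n x => (qd_mk dU U' hU' n x).symm)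
    (fun _ => Submodule.mkQ_surjective _) U' (fun _ => (Submodule.ker_mkQ _).symm) a
    (hexU a).le (hexU (a + 1)).le

/-- `ker (dU 0) ≃ ker (d'' 0)` -/
theorem exists_kerEquiv (hdU : ∀ a x, dU (a + 1) (dU a x) = 0)
    (hU0 : ∀ x ∈ U' 0, dU 0 x = 0 → x = 0)
    (hU1 : ∀ x ∈ U' 1, dU 1 x = 0 → ∃ y ∈ U' 0, dU 0 y = x) :
    ∃ e : ↥(LinearMap.ker (dU 0)) ≃ₗ[k] ↥(LinearMap.ker (qd dU U' hU' 0)),
      ∀ x, (e x).1 = (U' 0).mkQ x.1 := by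
  let m : ↥(LinearMap.ker (dU 0)) →ₗ[k] ↥(LinearMap.ker (qd dU U' hU' 0)) :=
    ((U' 0).mkQ ∘ₗ (LinearMap.ker (dU 0)).subtype).codRestrict _ (by
      rintro ⟨x, hx⟩
      rw [LinearMap.mem_ker] at hx ⊢
      change qd dU U' hU' 0 ((U' 0).mkQ x) = 0
      rw [qd_mk, hx, map_zero])
  have hm : ∀ x, (m x).1 = (U' 0).mkQ x.1 := fun x => rfl
  have hinj : Function.Injective m := by
    rw [← LinearMap.ker_eq_bot, LinearMap.ker_eq_bot']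
    rintro ⟨x, hx⟩ h0
    have h1 : (U' 0).mkQ x = 0 := by
      have := congrArg Subtype.val h0
      rwa [hm] at this
    rw [Submodule.mkQ_apply, Submodule.Quotient.mk_eq_zero] at h1
    exact Subtype.ext (hU0 x h1 (LinearMap.mem_ker.1 hx))
  have hsurj : Function.Surjective m := by
    rintro ⟨y, hy⟩
    obtain ⟨x, rfl⟩ := Submodule.mkQ_surjective _ y
    rw [LinearMap.mem_ker, qd_mk, Submodule.mkQ_apply, Submodule.Quotient.mk_eq_zero] at hy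
    obtain ⟨y, hy', hyx⟩ := hU1 (dU 0 x) hy (hdU 0 x)
    refine ⟨⟨x - y, ?_⟩, ?_⟩
    · rw [LinearMap.mem_ker, map_sub, hyx, sub_self]
    · apply Subtype.ext
      rw [hm]
      change (U' 0).mkQ (x - y) = (U' 0).mkQ x
      rw [map_sub, sub_eq_self, Submodule.mkQ_apply, Submodule.Quotient.mk_eq_zero]
      exact hy'
  exact ⟨LinearEquiv.ofBijective m ⟨hinj, hsurj⟩, fun x => rfl⟩

/-- a linear section `U_0/U'_0 → ker (dU 0) ⊆ U_0` lifting the harmonic projector -/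
theorem exists_section (hdU : ∀ a x, dU (a + 1) (dU a x) = 0)
    (hU0 : ∀ x ∈ U' 0, dU 0 x = 0 → x = 0)
    (hU1 : ∀ x ∈ U' 1, dU 1 x = 0 → ∃ y ∈ U' 0, dU 0 y = x)
    (H'' : HData (qd dU U' hU')) :
    ∃ σ : (U 0 ⧸ U' 0) →ₗ[k] U 0, (∀ y, dU 0 (σ y) = 0) ∧
      (∀ y, (U' 0).mkQ (σ y) = H''.Q 0 y) ∧ (∀ x, dU 0 x = 0 → σ ((U' 0).mkQ x) = x) := by
  obtain ⟨e, he⟩ := exists_kerEquiv dU U' hU' hdU hU0 hU1
  let c : (U 0 ⧸ U' 0) →ₗ[k] ↥(LinearMap.ker (qd dU U' hU' 0)) :=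
    (H''.Q 0).codRestrict _ (fun y => LinearMap.mem_ker.2 (H''.DQ 0 y))
  have hc : ∀ y, (c y).1 = H''.Q 0 y := fun y => rfl
  refine ⟨(LinearMap.ker (dU 0)).subtype ∘ₗ e.symm.toLinearMap ∘ₗ c, ?_, ?_, ?_⟩
  · intro y
    exact LinearMap.mem_ker.1 (e.symm (c y)).2
  · intro y
    change (U' 0).mkQ (e.symm (c y)).1 = _
    rw [← he, LinearEquiv.apply_symm_apply, hc]
  · intro x hx
    change (e.symm (c ((U' 0).mkQ x))).1 = x
    have h1 : c ((U' 0).mkQ x) = e ⟨x, LinearMap.mem_ker.2 hx⟩ := by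
      apply Subtype.ext
      rw [hc, he]
      apply H''.eq_Q_of_mem_ker_zero
      rw [qd_mk, hx, map_zero]
    rw [h1, LinearEquiv.symm_apply_apply]

/-- `H^0(U/U') ≃ ker (dU 0)` -/
theorem Hs_zero_equiv (hdU : ∀ a x, dU (a + 1) (dU a x) = 0)
    (hU0 : ∀ x ∈ U' 0, dU 0 x = 0 → x = 0)
    (hU1 : ∀ x ∈ U' 1, dU 1 x = 0 → ∃ y ∈ U' 0, dU 0 y = x) :
    Nonempty (Hs (qd dU U' hU') (fun _ => ⊤) 0 ≃ₗ[k] ↥(LinearMap.ker (dU 0))) := by
  obtain ⟨H''⟩ := exists_hdata (qd dU U' hU') (qd_qd dU U' hU' hdU)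
  obtain ⟨e1⟩ := H''.equiv_range 0
  obtain ⟨e, -⟩ := exists_kerEquiv dU U' hU' hdU hU0 hU1
  exact ⟨(e1.trans (LinearEquiv.ofEq _ _ H''.range_Q_zero)).trans e.symm⟩

end Quot

end Groth.Agent.H98.Kun
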