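import Mathlib
import Groth.Agent.H81.Kun.Defs
import Groth.Agent.H98.Kun.Quot

set_option autoImplicit false
set_option linter.unusedSimpArgs false
universe u

/-!
# The linear-algebra half of the Künneth formula for Segre products

`U`, `V` resolutions (exact in positive degrees) with subcomplexes `U'`, `V'` having
`H^0 = H^1 = 0`; `GG = ker (Tot(U ⊗ V) → Tot(U/U' ⊗ V/V'))`.  Then
`dim H^q(GG) = dim Z^0(U) · dim H^q(V') + dim H^q(U') · dim Z^0(V) + ∑_i dim H^i(U') · dim H^{q+1-i}(V')`.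
-/

namespace Groth.Agent.H98.Kun

open Groth.Agent.H81.Kun
open scoped TensorProduct

variable {k : Type u} [Field k] {U : ℕ → Type u} [∀ a, AddCommGroup (U a)] [∀ a, Module k (U a)]
  {V : ℕ → Type u} [∀ b, AddCommGroup (V b)] [∀ b, Module k (V b)]

/-- the kernel of `Tot(U ⊗ V) → Tot(U/U' ⊗ V/V')` -/
noncomputable abbrev GG (U' : ∀ a, Submodule k (U a)) (V' : ∀ b, Submodule k (V b)) (n : ℕ) :
    Submodule k (TotX k U V n) :=
  LinearMap.ker (TotMap (fun a => (U' a).mkQ) (fun b => (V' b).mkQ) n)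

/-- a family of maps concentrated in degree `0` -/
noncomputable def fam0 {A A' : ℕ → Type u} [∀ a, AddCommGroup (A a)] [∀ a, Module k (A a)]
    [∀ a, AddCommGroup (A' a)] [∀ a, Module k (A' a)] (σ : A 0 →ₗ[k] A' 0) :
    ∀ a, A a →ₗ[k] A' a
  | 0 => σ
  | _ + 1 => 0

section Setup

variable (dU : ∀ a, U a →ₗ[k] U (a + 1)) (dV : ∀ b, V b →ₗ[k] V (b + 1))
  (hdU : ∀ a x, dU (a + 1) (dU a x) = 0) (hdV : ∀ b y, dV (b + 1) (dV b y) = 0)
  (U' : ∀ a, Submodule k (U a)) (hU' : ∀ a x, x ∈ U' a → dU a x ∈ U' (a + 1))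
  (V' : ∀ b, Submodule k (V b)) (hV' : ∀ b y, y ∈ V' b → dV b y ∈ V' (b + 1))

/-- the projection of total complexes -/
noncomputable abbrev pp (n : ℕ) :
    TotX k U V n →ₗ[k] TotX k (fun a => U a ⧸ U' a) (fun b => V b ⧸ V' b) n :=
  TotMap (fun a => (U' a).mkQ) (fun b => (V' b).mkQ) n

theorem pp_D (n : ℕ) (w : TotX k U V n) :
    pp U' V' (n + 1) (TotD dU dV n w) =
      TotD (qd dU U' hU') (qd dV V' hV') n (pp U' V' n w) :=
  TotMap_TotD dU dV _ _ _ _ (fun a x => (qd_mk dU U' hU' a x).symm)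
    (fun b y => (qd_mk dV V' hV' b y).symm) n w

theorem pp_surjective (n : ℕ) : Function.Surjective (pp U' V' n) :=
  TotMap_surjective _ _ (fun _ => Submodule.mkQ_surjective _)
    (fun _ => Submodule.mkQ_surjective _) n

include hdU hdV in
/-- `Tot(U ⊗ V)` is exact in positive degrees -/
theorem tot_exact (hexU : ∀ a, LinearMap.ker (dU (a + 1)) = LinearMap.range (dU a))
    (hexV : ∀ b, LinearMap.ker (dV (b + 1)) = LinearMap.range (dV b)) (n : ℕ) :
    LinearMap.ker (TotD dU dV (n + 1)) ≤ LinearMap.range (TotD dU dV n) := by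
  obtain ⟨HU⟩ := exists_hdata dU hdU
  obtain ⟨HV⟩ := exists_hdata dV hdV
  apply (totHData HU HV).exact_of_Q_eq_zero n
  intro w
  rw [totHData_Q]
  apply TotMap_eq_zero
  intro a b hab
  cases a with
  | zero =>
    right
    have hb : b = n + 1 := by omega
    subst hb
    exact LinearMap.ext (HV.Q_eq_zero_of_exact n (hexV n).le)
  | succ a' =>
    left
    exact LinearMap.ext (HU.Q_eq_zero_of_exact a' (hexU a').le)

theorem fam0_zero {A A' : ℕ → Type u} [∀ a, AddCommGroup (A a)] [∀ a, Module k (A a)]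
    [∀ a, AddCommGroup (A' a)] [∀ a, Module k (A' a)] (σ : A 0 →ₗ[k] A' 0) (x : A 0) :
    fam0 σ 0 x = σ x := rfl

include hdU hdV in
/-- the degree-zero lifting: a map `S : Tot''_0 → Tot_0` with values in the cocycles, a right
inverse of the projection on cocycles and a left inverse on projected cocycles -/
theorem exists_lift (hU0 : ∀ x ∈ U' 0, dU 0 x = 0 → x = 0)
    (hU1 : ∀ x ∈ U' 1, dU 1 x = 0 → ∃ y ∈ U' 0, dU 0 y = x)
    (hV0 : ∀ y ∈ V' 0, dV 0 y = 0 → y = 0)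
    (hV1 : ∀ y ∈ V' 1, dV 1 y = 0 → ∃ z ∈ V' 0, dV 0 z = y) :
    ∃ S : TotX k (fun a => U a ⧸ U' a) (fun b => V b ⧸ V' b) 0 →ₗ[k] TotX k U V 0,
      (∀ y, TotD dU dV 0 (S y) = 0) ∧
      (∀ y, TotD (qd dU U' hU') (qd dV V' hV') 0 y = 0 → pp U' V' 0 (S y) = y) ∧
      (∀ w, TotD dU dV 0 w = 0 → S (pp U' V' 0 w) = w) := by
  obtain ⟨HU⟩ := exists_hdata dU hdU
  obtain ⟨HV⟩ := exists_hdata dV hdV
  obtain ⟨HU''⟩ := exists_hdata (qd dU U' hU') (qd_qd dU U' hU' hdU)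
  obtain ⟨HV''⟩ := exists_hdata (qd dV V' hV') (qd_qd dV V' hV' hdV)
  obtain ⟨σ, hσ1, hσ2, hσ3⟩ := exists_section dU U' hU' hdU hU0 hU1 HU''
  obtain ⟨τ, hτ1, hτ2, hτ3⟩ := exists_section dV V' hV' hdV hV0 hV1 HV''
  let fσ := fam0 (A := fun a => U a ⧸ U' a) (A' := U) σ
  let fτ := fam0 (A := fun b => V b ⧸ V' b) (A' := V) τ
  refine ⟨TotMap fσ fτ 0, ?_, ?_, ?_⟩
  · have key : TotD dU dV 0 ∘ₗ TotMap fσ fτ 0 = 0 := by
      apply hom_ext
      intro a b hab x y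
      have ha : a = 0 := by omega
      have hb : b = 0 := by omega
      subst ha
      subst hb
      rw [LinearMap.comp_apply, TotMap_inc, TensorProduct.map_tmul, TotD_inc_tmul, fam0_zero,
        fam0_zero, hσ1, hτ1, TensorProduct.zero_tmul, TensorProduct.tmul_zero, map_zero, map_zero,
        smul_zero, add_zero, LinearMap.zero_apply]
    exact fun y => LinearMap.congr_fun key y
  · intro y hy
    have h1 := (totHData HU'' HV'').eq_Q_of_mem_ker_zero y hy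
    rw [totHData_Q] at h1
    rw [TotMap_comp]
    refine Eq.trans ?_ h1
    apply TotMap_zero_congr
    · intro x
      exact hσ2 x
    · intro x
      exact hτ2 x
  · intro w hw
    have h1 := (totHData HU HV).eq_Q_of_mem_ker_zero w hw
    rw [totHData_Q] at h1
    rw [TotMap_comp]
    refine Eq.trans ?_ h1
    rw [← h1, TotMap_comp, TotMap_comp]
    apply TotMap_zero_congr
    · intro x
      change σ ((U' 0).mkQ (HU.Q 0 x)) = HU.Q 0 (HU.Q 0 x)
      rw [HU.QQ]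
      exact hσ3 _ (HU.DQ 0 x)
    · intro x
      change τ ((V' 0).mkQ (HV.Q 0 x)) = HV.Q 0 (HV.Q 0 x)
      rw [HV.QQ]
      exact hτ3 _ (HV.DQ 0 x)

include hdU hdV hU' hV' in
/-- `H^0(GG) = 0` -/
theorem subsingleton_Hs_GG_zero (hU0 : ∀ x ∈ U' 0, dU 0 x = 0 → x = 0)
    (hU1 : ∀ x ∈ U' 1, dU 1 x = 0 → ∃ y ∈ U' 0, dU 0 y = x)
    (hV0 : ∀ y ∈ V' 0, dV 0 y = 0 → y = 0)
    (hV1 : ∀ y ∈ V' 1, dV 1 y = 0 → ∃ z ∈ V' 0, dV 0 z = y) :
    Subsingleton (Hs (TotD dU dV) (GG U' V') 0) := by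
  obtain ⟨S, -, -, hS3⟩ := exists_lift dU dV hdU hdV U' hU' V' hV' hU0 hU1 hV0 hV1
  have : Subsingleton ↥(cocyc (TotD dU dV) (GG U' V') 0) := by
    have h0 : ∀ x : ↥(cocyc (TotD dU dV) (GG U' V') 0), x.1 = 0 := by
      rintro ⟨w, hw1, hw2⟩
      have h1 := hS3 w (LinearMap.mem_ker.1 hw2)
      have h2 : pp U' V' 0 w = 0 := LinearMap.mem_ker.1 hw1
      rw [h2, map_zero] at h1
      exact h1.symm
    exact ⟨fun x y => Subtype.ext ((h0 x).trans (h0 y).symm)⟩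
  infer_instance

include hdU hdV hU' hV' in
/-- `H^1(GG) = 0` -/
theorem subsingleton_Hs_GG_one (hexU : ∀ a, LinearMap.ker (dU (a + 1)) = LinearMap.range (dU a))
    (hexV : ∀ b, LinearMap.ker (dV (b + 1)) = LinearMap.range (dV b))
    (hU0 : ∀ x ∈ U' 0, dU 0 x = 0 → x = 0)
    (hU1 : ∀ x ∈ U' 1, dU 1 x = 0 → ∃ y ∈ U' 0, dU 0 y = x)
    (hV0 : ∀ y ∈ V' 0, dV 0 y = 0 → y = 0)
    (hV1 : ∀ y ∈ V' 1, dV 1 y = 0 → ∃ z ∈ V' 0, dV 0 z = y) :
    Subsingleton (Hs (TotD dU dV) (GG U' V') 1) := by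
  obtain ⟨S, hS1, hS2, -⟩ := exists_lift dU dV hdU hdV U' hU' V' hV' hU0 hU1 hV0 hV1
  apply subquot_subsingleton
  rintro z ⟨hz1, hz2⟩
  obtain ⟨x, rfl⟩ := tot_exact dU dV hdU hdV hexU hexV 0 hz2
  have hz1' : pp U' V' 1 (TotD dU dV 0 x) = 0 := LinearMap.mem_ker.1 hz1
  rw [pp_D dU dV U' hU' V' hV'] at hz1'
  have h2 := hS2 _ hz1'
  refine ⟨x - S (pp U' V' 0 x), ?_, ?_⟩
  · change x - S (pp U' V' 0 x) ∈ LinearMap.ker (pp U' V' 0)
    rw [LinearMap.mem_ker, map_sub, h2, sub_self]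
  · rw [map_sub, hS1, sub_zero]

include hdU hdV in
/-- `H^{r+2}(GG) ≃ H^{r+1}(Tot(U/U' ⊗ V/V'))` -/
theorem Hs_GG_equiv (hexU : ∀ a, LinearMap.ker (dU (a + 1)) = LinearMap.range (dU a))
    (hexV : ∀ b, LinearMap.ker (dV (b + 1)) = LinearMap.range (dV b)) (r : ℕ) :
    Nonempty (Hs (TotD dU dV) (GG U' V') (r + 2) ≃ₗ[k]
      Hs (TotD (qd dU U' hU') (qd dV V' hV')) (fun _ => ⊤) (r + 1)) :=
  conn_equiv (TotD dU dV) (TotD (qd dU U' hU') (qd dV V' hV')) (pp U' V')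
    (TotD_TotD dU dV hdU hdV) (pp_D dU dV U' hU' V' hV') (pp_surjective U' V') (GG U' V')
    (fun _ => rfl) r (tot_exact dU dV hdU hdV hexU hexV r)
    (tot_exact dU dV hdU hdV hexU hexV (r + 1))

end Setup


theorem arith (m n : ℕ) (u v a b : ℕ → ℕ) (u0 : u 0 = 0) (u1 : u 1 = 0) (v0 : v 0 = 0)
    (v1 : v 1 = 0) (a0 : a 0 = m) (aS : ∀ i, a (i + 1) = u (i + 2)) (b0 : b 0 = n)
    (bS : ∀ j, b (j + 1) = v (j + 2)) (r : ℕ) :
    ∑ i ∈ Finset.range (r + 2), a i * b (r + 1 - i) =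
      m * v (r + 2) + u (r + 2) * n + ∑ i ∈ Finset.range (r + 2 + 2), u i * v (r + 2 + 1 - i) := by
  have hL : ∑ i ∈ Finset.range (r + 2), a i * b (r + 1 - i) =
      ∑ i ∈ Finset.range r, u (i + 2) * v (r - i + 1) + u (r + 2) * n + m * v (r + 2) := by
    rw [Finset.sum_range_succ', Finset.sum_range_succ, a0, aS]
    have e1 : r + 1 - (r + 1) = 0 := by omega
    have e2 : r + 1 - 0 = r + 1 := by omega
    rw [e1, e2, b0, bS]
    congr 2
    apply Finset.sum_congr rfl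
    intro i hi
    rw [Finset.mem_range] at hi
    have e3 : r + 1 - (i + 1) = (r - i - 1) + 1 := by omega
    have e4 : r - i - 1 + 2 = r - i + 1 := by omega
    rw [aS, e3, bS, e4]
  have hR : ∑ i ∈ Finset.range (r + 2 + 2), u i * v (r + 2 + 1 - i) =
      ∑ i ∈ Finset.range r, u (i + 2) * v (r - i + 1) := by
    rw [Finset.sum_range_succ', Finset.sum_range_succ', u0, u1, zero_mul, zero_mul, add_zero,
      add_zero, Finset.sum_range_succ, Finset.sum_range_succ]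
    have e1 : r + 2 + 1 - (r + 1 + 1 + 1) = 0 := by omega
    have e2 : r + 2 + 1 - (r + 1 + 1) = 1 := by omega
    rw [e1, e2, v0, v1, mul_zero, mul_zero, add_zero, add_zero]
    apply Finset.sum_congr rfl
    intro i hi
    rw [Finset.mem_range] at hi
    have e3 : r + 2 + 1 - (i + 1 + 1) = r - i + 1 := by omega
    rw [e3]
  rw [hL, hR]
  ring

/-- the sum over `Idx n` as a sum over a range -/
theorem sum_Idx (f : ℕ → ℕ → ℕ) (n : ℕ) :
    ∑ p : Idx n, f p.1.1 p.1.2 = ∑ i ∈ Finset.range (n + 1), f i (n - i) := by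
  rw [← Finset.Nat.sum_antidiagonal_eq_sum_range_succ f n]
  exact (Finset.sum_subtype (Finset.HasAntidiagonal.antidiagonal n)
    (fun _ => Finset.HasAntidiagonal.mem_antidiagonal) (fun x : ℕ × ℕ => f x.1 x.2)).symm

/-- **The linear-algebra half of the Künneth formula for Segre products.** -/
theorem main (dU : ∀ a, U a →ₗ[k] U (a+1)) (dV : ∀ b, V b →ₗ[k] V (b+1)) (hdU : ∀ a x, dU (a+1) (dU a x) = 0) (hdV : ∀ b y, dV (b+1) (dV b y) = 0) (U' : ∀ a, Submodule k (U a)) (hU' : ∀ a x, x ∈ U' a → dU a x ∈ U' (a+1)) (V' : ∀ b, Submodule k (V b)) (hV' : ∀ b y, y ∈ V' b → dV b y ∈ V' (b+1)) (hexU : ∀ a, LinearMap.ker (dU (a+1)) = LinearMap.range (dU a)) (hexV : ∀ b, LinearMap.ker (dV (b+1)) = LinearMap.range (dV b)) (hU0 : ∀ x ∈ U' 0, dU 0 x = 0 → x = 0) (hU1 : ∀ x ∈ U' 1, dU 1 x = 0 → ∃ y ∈ U' 0, dU 0 y = x) (hV0 : ∀ y ∈ V' 0, dV 0 y = 0 → y = 0) (hV1 : ∀ y ∈ V' 1, dV 1 y = 0 → ∃ z ∈ V' 0, dV 0 z = y) (hfU : ∀ i, Module.Finite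 k (Hs dU U' i)) (hfV : ∀ j, Module.Finite k (Hs dV V' j)) (hfU0 : Module.Finite k (LinearMap.ker (dU 0))) (hfV0 : Module.Finite k (LinearMap.ker (dV 0))) (q : ℕ) : Module.finrank k (Hs (TotD dU dV) (GG U' V') q) = Module.finrank k (LinearMap.ker (dU 0)) * Module.finrank k (Hs dV V' q) + Module.finrank k (Hs dU U' q) * Module.finrank k (LinearMap.ker (dV 0)) + ∑ i ∈ Finset.range (q+2), Module.finrank k (Hs dU U' i) * Module.finrank k (Hs dV V' (q+1-i)) := by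
  -- vanishing in degrees 0, 1
  haveI sU0 := subsingleton_Hs_zero dU U' hU0
  haveI sU1 := subsingleton_Hs_one dU U' hU1
  haveI sV0 := subsingleton_Hs_zero dV V' hV0
  haveI sV1 := subsingleton_Hs_one dV V' hV1
  have u0 : Module.finrank k (Hs dU U' 0) = 0 := Module.finrank_zero_of_subsingleton
  have u1 : Module.finrank k (Hs dU U' 1) = 0 := Module.finrank_zero_of_subsingleton
  have v0 : Module.finrank k (Hs dV V' 0) = 0 := Module.finrank_zero_of_subsingleton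
  have v1 : Module.finrank k (Hs dV V' 1) = 0 := Module.finrank_zero_of_subsingleton
  match q with
  | 0 =>
    haveI := subsingleton_Hs_GG_zero dU dV hdU hdV U' hU' V' hV' hU0 hU1 hV0 hV1
    rw [Module.finrank_zero_of_subsingleton, u0, v0]
    simp [Finset.sum_range_succ, u0, u1, v0, v1]
  | 1 =>
    haveI := subsingleton_Hs_GG_one dU dV hdU hdV U' hU' V' hV' hexU hexV hU0 hU1 hV0 hV1
    rw [Module.finrank_zero_of_subsingleton, u1, v1]
    simp [Finset.sum_range_succ, u0, u1, v0, v1]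
  | r + 2 =>
    -- the quotient complexes
    obtain ⟨eU0⟩ := Hs_zero_equiv dU U' hU' hdU hU0 hU1
    obtain ⟨eV0⟩ := Hs_zero_equiv dV V' hV' hdV hV0 hV1
    have eUS := fun a => (Hs_succ_equiv dU U' hU' hdU hexU a).some
    have eVS := fun b => (Hs_succ_equiv dV V' hV' hdV hexV b).some
    have hfU'' : ∀ a, Module.Finite k (Hs (qd dU U' hU') (fun _ => ⊤) a) := by
      intro a
      cases a with
      | zero => exact Module.Finite.equiv eU0.symm
      | succ a' => exact Module.Finite.equiv (eUS a')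
    have hfV'' : ∀ b, Module.Finite k (Hs (qd dV V' hV') (fun _ => ⊤) b) := by
      intro b
      cases b with
      | zero => exact Module.Finite.equiv eV0.symm
      | succ b' => exact Module.Finite.equiv (eVS b')
    obtain ⟨e⟩ := Hs_GG_equiv dU dV hdU hdV U' hU' V' hV' hexU hexV r
    rw [e.finrank_eq, (finrank_Hs_tot (qd_qd dU U' hU' hdU) (qd_qd dV V' hV' hdV) hfU'' hfV''
      (r + 1)).2,
      sum_Idx (fun a b => Module.finrank k (Hs (qd dU U' hU') (fun _ => ⊤) a) *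
        Module.finrank k (Hs (qd dV V' hV') (fun _ => ⊤) b)) (r + 1)]
    exact arith _ _ (fun i => Module.finrank k (Hs dU U' i)) (fun j => Module.finrank k (Hs dV V' j))
      (fun a => Module.finrank k (Hs (qd dU U' hU') (fun _ => ⊤) a))
      (fun b => Module.finrank k (Hs (qd dV V' hV') (fun _ => ⊤) b)) u0 u1 v0 v1
      eU0.finrank_eq (fun i => (eUS i).finrank_eq.symm) eV0.finrank_eq
      (fun j => (eVS j).finrank_eq.symm) r

end Groth.Agent.H98.Kun
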