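import Mathlib
import Groth.Agent.H81.Kun.Defs
import Groth.Agent.H98.Kun.Main

set_option autoImplicit false
set_option linter.unusedSimpArgs false
set_option linter.unusedSectionVars false
set_option linter.style.haveILetI false
universe u

/-!
# The natural top-degree Künneth isomorphism

`U`, `V` resolutions with subcomplexes `U'`, `V'`, `GG = ker (Tot(U ⊗ V) → Tot(U/U' ⊗ V/V'))`.
If `H^i(U') = 0` for `i > a + 2` and `H^j(V') = 0` for `j > b + 2` then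
`Ψ : H^{a+2}(U') ⊗ H^{b+2}(V') ≃ H^{a+b+3}(GG)`, `Ψ ([dξ] ⊗ [dη]) = [D (ξ ⊗ η)]`
for all `ξ ∈ U^{a+1}`, `η ∈ V^{b+1}` with `dξ ∈ U'`, `dη ∈ V'`.  The explicit formula makes `Ψ`
natural with respect to pairs of chain maps preserving the subcomplexes.
-/

namespace Groth.Agent.H98.Kun

open Groth.Agent.H81.Kun
open scoped TensorProduct

variable {k : Type u} [Field k] {U : ℕ → Type u} [∀ a, AddCommGroup (U a)] [∀ a, Module k (U a)]
  {V : ℕ → Type u} [∀ b, AddCommGroup (V b)] [∀ b, Module k (V b)]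

section OneComplex

variable (dU : ∀ a, U a →ₗ[k] U (a + 1)) (hdU : ∀ a x, dU (a + 1) (dU a x) = 0)
  (U' : ∀ a, Submodule k (U a)) (hU' : ∀ a x, x ∈ U' a → dU a x ∈ U' (a + 1))

/-- the elements of `U^{a+1}` whose differential lies in the subcomplex -/
def WW (a : ℕ) : Submodule k (U (a + 1)) := (U' (a + 2)).comap (dU (a + 1))

theorem mem_WW {a : ℕ} {ξ : U (a + 1)} : ξ ∈ WW dU U' a ↔ dU (a + 1) ξ ∈ U' (a + 2) := Iff.rfl

include hdU in
theorem d_mem_cocyc {a : ℕ} {ξ : U (a + 1)} (hξ : ξ ∈ WW dU U' a) :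
    dU (a + 1) ξ ∈ cocyc dU U' (a + 2) :=
  ⟨hξ, LinearMap.mem_ker.2 (hdU _ _)⟩

/-- the class `[dξ] ∈ H^{a+2}(U')` of `ξ ∈ WW` -/
noncomputable def clsW (a : ℕ) : ↥(WW dU U' a) →ₗ[k] Hs dU U' (a + 2) :=
  ((cobdy dU U' (a + 2)).comap (cocyc dU U' (a + 2)).subtype).mkQ ∘ₗ
    ((dU (a + 1)).restrict (p := WW dU U' a) (q := cocyc dU U' (a + 2))
      (fun _ hξ => d_mem_cocyc dU hdU U' hξ))

theorem clsW_apply (a : ℕ) (ξ : ↥(WW dU U' a)) :
    clsW dU hdU U' a ξ =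
      Submodule.Quotient.mk ⟨dU (a + 1) ξ.1, d_mem_cocyc dU hdU U' ξ.2⟩ := rfl

theorem clsW_surjective (hexU : ∀ a, LinearMap.ker (dU (a + 1)) = LinearMap.range (dU a))
    (a : ℕ) : Function.Surjective (clsW dU hdU U' a) := by
  intro c
  obtain ⟨⟨x, hx1, hx2⟩, rfl⟩ := Submodule.Quotient.mk_surjective _ c
  rw [hexU (a + 1)] at hx2
  obtain ⟨ξ, rfl⟩ := hx2
  exact ⟨⟨ξ, hx1⟩, rfl⟩

theorem clsW_eq_zero_iff (a : ℕ) (ξ : ↥(WW dU U' a)) :
    clsW dU hdU U' a ξ = 0 ↔ ∃ u ∈ U' (a + 1), dU (a + 1) (ξ.1 - u) = 0 := by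
  rw [clsW_apply, Submodule.Quotient.mk_eq_zero]
  constructor
  · rintro ⟨u, hu, hux⟩
    refine ⟨u, hu, ?_⟩
    rw [map_sub, sub_eq_zero]
    exact hux.symm
  · rintro ⟨u, hu, hux⟩
    refine ⟨u, hu, ?_⟩
    rw [map_sub, sub_eq_zero] at hux
    exact hux.symm

end OneComplex

section TwoComplexes

variable (dU : ∀ a, U a →ₗ[k] U (a + 1)) (dV : ∀ b, V b →ₗ[k] V (b + 1))
  (hdU : ∀ a x, dU (a + 1) (dU a x) = 0) (hdV : ∀ b y, dV (b + 1) (dV b y) = 0)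
  (U' : ∀ a, Submodule k (U a)) (hU' : ∀ a x, x ∈ U' a → dU a x ∈ U' (a + 1))
  (V' : ∀ b, Submodule k (V b)) (hV' : ∀ b y, y ∈ V' b → dV b y ∈ V' (b + 1))

/-- `inc (x ⊗ y)` lies in `GG` as soon as `x ∈ U'` -/
theorem inc_mem_GG_left {a b n : ℕ} (h : a + b = n) (x : U a) (y : V b) (hx : x ∈ U' a) :
    inc h (x ⊗ₜ[k] y) ∈ GG U' V' n := by
  rw [LinearMap.mem_ker, TotMap_inc, TensorProduct.map_tmul]
  have : (U' a).mkQ x = 0 := by
    rw [Submodule.mkQ_apply, Submodule.Quotient.mk_eq_zero]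
    exact hx
  rw [this, TensorProduct.zero_tmul, map_zero]

/-- `inc (x ⊗ y)` lies in `GG` as soon as `y ∈ V'` -/
theorem inc_mem_GG_right {a b n : ℕ} (h : a + b = n) (x : U a) (y : V b) (hy : y ∈ V' b) :
    inc h (x ⊗ₜ[k] y) ∈ GG U' V' n := by
  rw [LinearMap.mem_ker, TotMap_inc, TensorProduct.map_tmul]
  have : (V' b).mkQ y = 0 := by
    rw [Submodule.mkQ_apply, Submodule.Quotient.mk_eq_zero]
    exact hy
  rw [this, TensorProduct.tmul_zero, map_zero]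

variable {a b M : ℕ} (hM : a + b + 1 = M)

include hdU hdV hM in
/-- `D (ξ ⊗ η)` is a cocycle of `GG` when `dξ ∈ U'`, `dη ∈ V'` -/
theorem D_inc_mem_cocyc (ξ : U (a + 1)) (η : V (b + 1)) (hξ : ξ ∈ WW dU U' a)
    (hη : η ∈ WW dV V' b) :
    TotD dU dV (M + 1) (inc (show a + 1 + (b + 1) = M + 1 by omega) (ξ ⊗ₜ[k] η)) ∈
      cocyc (TotD dU dV) (GG U' V') (M + 1 + 1) := by
  refine ⟨?_, LinearMap.mem_ker.2 (TotD_TotD dU dV hdU hdV _ _)⟩
  rw [TotD_inc_tmul]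
  refine Submodule.add_mem _ (inc_mem_GG_left U' V' _ _ _ hξ)
    (Submodule.smul_mem _ _ (inc_mem_GG_right U' V' _ _ _ hη))

/-- the map `ξ ⊗ η ↦ D (ξ ⊗ η)` on `WW ⊗ WW` -/
noncomputable def LW : ↥(WW dU U' a) ⊗[k] ↥(WW dV V' b) →ₗ[k] TotX k U V (M + 1 + 1) :=
  TotD dU dV (M + 1) ∘ₗ inc (show a + 1 + (b + 1) = M + 1 by omega) ∘ₗ
    TensorProduct.map (WW dU U' a).subtype (WW dV V' b).subtype

theorem LW_tmul (ξ : ↥(WW dU U' a)) (η : ↥(WW dV V' b)) :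
    LW dU dV U' V' hM (ξ ⊗ₜ[k] η) =
      TotD dU dV (M + 1) (inc (show a + 1 + (b + 1) = M + 1 by omega) (ξ.1 ⊗ₜ[k] η.1)) := rfl

include hdU hdV in
theorem LW_mem (t : ↥(WW dU U' a) ⊗[k] ↥(WW dV V' b)) :
    LW dU dV U' V' hM t ∈ cocyc (TotD dU dV) (GG U' V') (M + 1 + 1) := by
  induction t using TensorProduct.induction_on with
  | zero => rw [map_zero]; exact Submodule.zero_mem _
  | tmul ξ η =>
    rw [LW_tmul]
    exact D_inc_mem_cocyc dU dV hdU hdV U' V' hM ξ.1 η.1 ξ.2 η.2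
  | add t t' ht ht' => rw [map_add]; exact Submodule.add_mem _ ht ht'

/-- the pairing `β (ξ ⊗ η) = [D (ξ ⊗ η)] ∈ H^{top}(GG)` -/
noncomputable def beta :
    ↥(WW dU U' a) ⊗[k] ↥(WW dV V' b) →ₗ[k] Hs (TotD dU dV) (GG U' V') (M + 1 + 1) :=
  ((cobdy (TotD dU dV) (GG U' V') (M + 1 + 1)).comap
      (cocyc (TotD dU dV) (GG U' V') (M + 1 + 1)).subtype).mkQ ∘ₗ
    (LW dU dV U' V' hM).codRestrict _ (LW_mem dU dV hdU hdV U' V' hM)

theorem beta_tmul (ξ : ↥(WW dU U' a)) (η : ↥(WW dV V' b)) :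
    beta dU dV hdU hdV U' V' hM (ξ ⊗ₜ[k] η) =
      Submodule.Quotient.mk ⟨TotD dU dV (M + 1)
        (inc (show a + 1 + (b + 1) = M + 1 by omega) (ξ.1 ⊗ₜ[k] η.1)),
        D_inc_mem_cocyc dU dV hdU hdV U' V' hM ξ.1 η.1 ξ.2 η.2⟩ := rfl

/-- `β (ξ ⊗ η) = 0` as soon as `D (ξ ⊗ η) = D g` with `g ∈ GG` -/
theorem beta_tmul_eq_zero (ξ : ↥(WW dU U' a)) (η : ↥(WW dV V' b))
    (g : TotX k U V (M + 1)) (hg : g ∈ GG U' V' (M + 1))
    (h : TotD dU dV (M + 1) g =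
      TotD dU dV (M + 1) (inc (show a + 1 + (b + 1) = M + 1 by omega) (ξ.1 ⊗ₜ[k] η.1))) :
    beta dU dV hdU hdV U' V' hM (ξ ⊗ₜ[k] η) = 0 := by
  rw [beta_tmul, Submodule.Quotient.mk_eq_zero]
  exact ⟨g, hg, h⟩

include hU' in
theorem mem_WW_of_mem (ξ : U (a + 1)) (h : ξ ∈ U' (a + 1)) : ξ ∈ WW dU U' a :=
  hU' _ _ h

theorem mem_WW_of_ker (ξ : U (a + 1)) (h : dU (a + 1) ξ = 0) : ξ ∈ WW dU U' a := by
  rw [mem_WW, h]
  exact Submodule.zero_mem _

/-- vanishing of `β` in the first slot: `ξ ∈ U'` -/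
theorem beta_left_sub (ξ : ↥(WW dU U' a)) (η : ↥(WW dV V' b)) (h : ξ.1 ∈ U' (a + 1)) :
    beta dU dV hdU hdV U' V' hM (ξ ⊗ₜ[k] η) = 0 :=
  beta_tmul_eq_zero dU dV hdU hdV U' V' hM ξ η _ (inc_mem_GG_left U' V' _ _ _ h) rfl

/-- vanishing of `β` in the second slot: `η ∈ V'` -/
theorem beta_right_sub (ξ : ↥(WW dU U' a)) (η : ↥(WW dV V' b)) (h : η.1 ∈ V' (b + 1)) :
    beta dU dV hdU hdV U' V' hM (ξ ⊗ₜ[k] η) = 0 :=
  beta_tmul_eq_zero dU dV hdU hdV U' V' hM ξ η _ (inc_mem_GG_right U' V' _ _ _ h) rfl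

/-- vanishing of `β` in the first slot: `ξ` a cocycle of the resolution `U` -/
theorem beta_left_ker (hexU : ∀ a, LinearMap.ker (dU (a + 1)) = LinearMap.range (dU a))
    (ξ : ↥(WW dU U' a)) (η : ↥(WW dV V' b)) (h : dU (a + 1) ξ.1 = 0) :
    beta dU dV hdU hdV U' V' hM (ξ ⊗ₜ[k] η) = 0 := by
  have h1 : ξ.1 ∈ LinearMap.ker (dU (a + 1)) := LinearMap.mem_ker.2 h
  rw [hexU a] at h1
  obtain ⟨ζ, hζ⟩ := h1
  have key := TotD_TotD dU dV hdU hdV M (inc (show a + (b + 1) = M by omega) (ζ ⊗ₜ[k] η.1))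
  rw [TotD_inc_tmul, map_add, map_smul, hζ] at key
  refine beta_tmul_eq_zero dU dV hdU hdV U' V' hM ξ η
    (-(((-1 : k) ^ a) • inc (show a + (b + 1 + 1) = M + 1 by omega)
      (ζ ⊗ₜ[k] dV (b + 1) η.1))) ?_ ?_
  · exact Submodule.neg_mem _ (Submodule.smul_mem _ _ (inc_mem_GG_right U' V' _ _ _ η.2))
  · rw [map_neg, map_smul]
    exact (eq_neg_of_add_eq_zero_left key).symm

/-- vanishing of `β` in the second slot: `η` a cocycle of the resolution `V` -/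
theorem beta_right_ker (hexV : ∀ b, LinearMap.ker (dV (b + 1)) = LinearMap.range (dV b))
    (ξ : ↥(WW dU U' a)) (η : ↥(WW dV V' b)) (h : dV (b + 1) η.1 = 0) :
    beta dU dV hdU hdV U' V' hM (ξ ⊗ₜ[k] η) = 0 := by
  have h1 : η.1 ∈ LinearMap.ker (dV (b + 1)) := LinearMap.mem_ker.2 h
  rw [hexV b] at h1
  obtain ⟨ζ, hζ⟩ := h1
  have key := TotD_TotD dU dV hdU hdV M (inc (show a + 1 + b = M by omega) (ξ.1 ⊗ₜ[k] ζ))
  rw [TotD_inc_tmul, map_add, map_smul, hζ] at key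
  refine beta_tmul_eq_zero dU dV hdU hdV U' V' hM ξ η
    (-(((-1 : k) ^ (a + 1)) • inc (show a + 1 + 1 + b = M + 1 by omega)
      (dU (a + 1) ξ.1 ⊗ₜ[k] ζ))) ?_ ?_
  · exact Submodule.neg_mem _ (Submodule.smul_mem _ _ (inc_mem_GG_left U' V' _ _ _ ξ.2))
  · rw [map_neg, map_smul]
    have h2 := congrArg (fun z => ((-1 : k) ^ (a + 1)) • z) key
    simp only [smul_add, smul_smul, neg_one_pow_mul_self', one_smul, smul_zero] at h2
    exact (eq_neg_of_add_eq_zero_right h2).symm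

include hU' in
/-- `β` kills `ker clsW ⊗ WW` -/
theorem beta_left (hexU : ∀ a, LinearMap.ker (dU (a + 1)) = LinearMap.range (dU a))
    (ξ : ↥(WW dU U' a)) (η : ↥(WW dV V' b)) (h : clsW dU hdU U' a ξ = 0) :
    beta dU dV hdU hdV U' V' hM (ξ ⊗ₜ[k] η) = 0 := by
  obtain ⟨u, hu, hux⟩ := (clsW_eq_zero_iff dU hdU U' a ξ).1 h
  have e : ξ = (⟨u, mem_WW_of_mem dU U' hU' u hu⟩ : ↥(WW dU U' a)) +
      ⟨ξ.1 - u, mem_WW_of_ker dU U' _ hux⟩ := by
    apply Subtype.ext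
    change ξ.1 = u + (ξ.1 - u)
    abel
  rw [e, TensorProduct.add_tmul, map_add,
    beta_left_sub dU dV hdU hdV U' V' hM _ η hu,
    beta_left_ker dU dV hdU hdV U' V' hM hexU _ η hux, add_zero]

include hV' in
/-- `β` kills `WW ⊗ ker clsW` -/
theorem beta_right (hexV : ∀ b, LinearMap.ker (dV (b + 1)) = LinearMap.range (dV b))
    (ξ : ↥(WW dU U' a)) (η : ↥(WW dV V' b)) (h : clsW dV hdV V' b η = 0) :
    beta dU dV hdU hdV U' V' hM (ξ ⊗ₜ[k] η) = 0 := by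
  obtain ⟨u, hu, hux⟩ := (clsW_eq_zero_iff dV hdV V' b η).1 h
  have e : η = (⟨u, mem_WW_of_mem dV V' hV' u hu⟩ : ↥(WW dV V' b)) +
      ⟨η.1 - u, mem_WW_of_ker dV V' _ hux⟩ := by
    apply Subtype.ext
    change η.1 = u + (η.1 - u)
    abel
  rw [e, TensorProduct.tmul_add, map_add,
    beta_right_sub dU dV hdU hdV U' V' hM ξ _ hu,
    beta_right_ker dU dV hdU hdV U' V' hM hexV ξ _ hux, add_zero]

include hU' hV' in
/-- `β (ξ ⊗ η)` only depends on the classes of `ξ` and `η` -/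
theorem beta_congr (hexU : ∀ a, LinearMap.ker (dU (a + 1)) = LinearMap.range (dU a))
    (hexV : ∀ b, LinearMap.ker (dV (b + 1)) = LinearMap.range (dV b))
    (ξ ξ' : ↥(WW dU U' a)) (η η' : ↥(WW dV V' b))
    (h1 : clsW dU hdU U' a ξ = clsW dU hdU U' a ξ')
    (h2 : clsW dV hdV V' b η = clsW dV hdV V' b η') :
    beta dU dV hdU hdV U' V' hM (ξ ⊗ₜ[k] η) = beta dU dV hdU hdV U' V' hM (ξ' ⊗ₜ[k] η') := by
  have e1 : clsW dU hdU U' a (ξ - ξ') = 0 := by rw [map_sub, h1, sub_self]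
  have e2 : clsW dV hdV V' b (η - η') = 0 := by rw [map_sub, h2, sub_self]
  have k1 := beta_left dU dV hdU hdV U' hU' V' hM hexU (ξ - ξ') η e1
  have k2 := beta_right dU dV hdU hdV U' V' hV' hM hexV ξ' (η - η') e2
  rw [TensorProduct.sub_tmul, map_sub, sub_eq_zero] at k1
  rw [TensorProduct.tmul_sub, map_sub, sub_eq_zero] at k2
  rw [k1, k2]

include hU' hV' in
/-- **the top Künneth map** `Ψ ([dξ] ⊗ [dη]) = [D (ξ ⊗ η)]` -/
theorem exists_Psi (hexU : ∀ a, LinearMap.ker (dU (a + 1)) = LinearMap.range (dU a))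
    (hexV : ∀ b, LinearMap.ker (dV (b + 1)) = LinearMap.range (dV b)) :
    ∃ Ψ : Hs dU U' (a + 2) ⊗[k] Hs dV V' (b + 2) →ₗ[k]
        Hs (TotD dU dV) (GG U' V') (M + 1 + 1),
      Ψ ∘ₗ TensorProduct.map (clsW dU hdU U' a) (clsW dV hdV V' b) =
        beta dU dV hdU hdV U' V' hM := by
  obtain ⟨sU, hsU⟩ := (clsW dU hdU U' a).exists_rightInverse_of_surjective
    (LinearMap.range_eq_top.2 (clsW_surjective dU hdU U' hexU a))
  obtain ⟨sV, hsV⟩ := (clsW dV hdV V' b).exists_rightInverse_of_surjective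
    (LinearMap.range_eq_top.2 (clsW_surjective dV hdV V' hexV b))
  refine ⟨beta dU dV hdU hdV U' V' hM ∘ₗ TensorProduct.map sU sV, ?_⟩
  apply TensorProduct.ext'
  intro ξ η
  rw [LinearMap.comp_apply, LinearMap.comp_apply, TensorProduct.map_tmul, TensorProduct.map_tmul]
  apply beta_congr dU dV hdU hdV U' hU' V' hV' hM hexU hexV
  · exact LinearMap.congr_fun hsU _
  · exact LinearMap.congr_fun hsV _

end TwoComplexes

section Aux

/-- `Q = 0` in a degree where the cohomology vanishes -/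
theorem HData.Q_eq_zero_of_subsingleton {X : ℕ → Type u} [∀ n, AddCommGroup (X n)]
    [∀ n, Module k (X n)] {D : ∀ n, X n →ₗ[k] X (n + 1)} (H : HData D) (n : ℕ)
    [Subsingleton (Hs D (fun _ => ⊤) n)] (x : X n) : H.Q n x = 0 := by
  obtain ⟨e⟩ := H.equiv_range n
  haveI : Subsingleton ↥(LinearMap.range (H.Q n)) := e.symm.toEquiv.subsingleton
  have : (⟨H.Q n x, ⟨x, rfl⟩⟩ : ↥(LinearMap.range (H.Q n))) = 0 := Subsingleton.elim _ _
  exact congrArg Subtype.val this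

/-- if all components but one vanish, `TotMap` is concentrated in that component -/
theorem TotMap_eq_inc {A B A' B' : ℕ → Type u} [∀ a, AddCommGroup (A a)] [∀ a, Module k (A a)]
    [∀ b, AddCommGroup (B b)] [∀ b, Module k (B b)] [∀ a, AddCommGroup (A' a)]
    [∀ a, Module k (A' a)] [∀ b, AddCommGroup (B' b)] [∀ b, Module k (B' b)]
    (f : ∀ a, A a →ₗ[k] A' a) (g : ∀ b, B b →ₗ[k] B' b) {a0 b0 n : ℕ} (h : a0 + b0 = n)
    (hz : ∀ a' b', a' + b' = n → (a' ≠ a0 ∨ b' ≠ b0) → (f a' = 0 ∨ g b' = 0))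
    (y : TotX k A B n) :
    TotMap f g n y = inc h (TensorProduct.map (f a0) (g b0) (y ⟨(a0, b0), h⟩)) := by
  funext p
  by_cases hp : p = ⟨(a0, b0), h⟩
  · subst hp
    rw [inc_apply_same, TotMap_apply]
  · rw [inc_apply_ne h _ p hp, TotMap_apply]
    obtain ⟨⟨a', b'⟩, hab⟩ := p
    have hne : a' ≠ a0 ∨ b' ≠ b0 := by
      by_contra hcon
      rw [not_or, not_not, not_not] at hcon
      obtain ⟨rfl, rfl⟩ := hcon
      exact hp rfl
    rcases hz a' b' hab hne with h0 | h0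
    · change TensorProduct.map (f a') (g b') _ = 0
      rw [h0, TensorProduct.map_zero_left]
      rfl
    · change TensorProduct.map (f a') (g b') _ = 0
      rw [h0, TensorProduct.map_zero_right]
      rfl

end Aux

section Quotient

variable (dU : ∀ a, U a →ₗ[k] U (a + 1)) (hdU : ∀ a x, dU (a + 1) (dU a x) = 0)
  (U' : ∀ a, Submodule k (U a)) (hU' : ∀ a x, x ∈ U' a → dU a x ∈ U' (a + 1))

include hdU in
/-- the harmonic projector of the quotient complex vanishes above degree `a + 1` -/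
theorem Q_quot_eq_zero (hexU : ∀ a, LinearMap.ker (dU (a + 1)) = LinearMap.range (dU a))
    (a : ℕ) (hvU : ∀ i, a + 2 < i → Subsingleton (Hs dU U' i))
    (H'' : HData (qd dU U' hU')) (a' : ℕ) (h : a + 2 ≤ a') (z : U a' ⧸ U' a') :
    H''.Q a' z = 0 := by
  cases a' with
  | zero => omega
  | succ a'' =>
    obtain ⟨e⟩ := Hs_succ_equiv dU U' hU' hdU hexU a''
    haveI := hvU (a'' + 2) (by omega)
    haveI : Subsingleton (Hs (qd dU U' hU') (fun _ => ⊤) (a'' + 1)) :=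
      e.symm.toEquiv.subsingleton
    exact H''.Q_eq_zero_of_subsingleton (a'' + 1) z

/-- a linear lift of the harmonic projector of the quotient complex to `WW` -/
theorem exists_lambda (a : ℕ) (H'' : HData (qd dU U' hU')) :
    ∃ l : (U (a + 1) ⧸ U' (a + 1)) →ₗ[k] ↥(WW dU U' a),
      ∀ z, (U' (a + 1)).mkQ (l z).1 = H''.Q (a + 1) z := by
  let Zq := LinearMap.ker (qd dU U' hU' (a + 1))
  let m : ↥(WW dU U' a) →ₗ[k] ↥Zq :=
    ((U' (a + 1)).mkQ ∘ₗ (WW dU U' a).subtype).codRestrict Zq (by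
      rintro ⟨ξ, hξ⟩
      rw [LinearMap.mem_ker]
      change qd dU U' hU' (a + 1) ((U' (a + 1)).mkQ ξ) = 0
      rw [qd_mk, Submodule.mkQ_apply, Submodule.Quotient.mk_eq_zero]
      exact hξ)
  have hm : ∀ ξ, (m ξ).1 = (U' (a + 1)).mkQ ξ.1 := fun _ => rfl
  have hsurj : Function.Surjective m := by
    rintro ⟨z, hz⟩
    obtain ⟨ξ, rfl⟩ := Submodule.mkQ_surjective _ z
    rw [LinearMap.mem_ker, qd_mk, Submodule.mkQ_apply, Submodule.Quotient.mk_eq_zero] at hz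
    exact ⟨⟨ξ, hz⟩, rfl⟩
  obtain ⟨ρ, hρ⟩ := m.exists_rightInverse_of_surjective (LinearMap.range_eq_top.2 hsurj)
  let c : (U (a + 1) ⧸ U' (a + 1)) →ₗ[k] ↥Zq :=
    (H''.Q (a + 1)).codRestrict Zq (fun z => LinearMap.mem_ker.2 (H''.DQ (a + 1) z))
  refine ⟨ρ ∘ₗ c, fun z => ?_⟩
  rw [LinearMap.comp_apply, ← hm]
  have := LinearMap.congr_fun hρ (c z)
  rw [LinearMap.comp_apply] at this
  rw [this]
  rfl

end Quotient

section Bijective

variable (dU : ∀ a, U a →ₗ[k] U (a + 1)) (dV : ∀ b, V b →ₗ[k] V (b + 1))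
  (hdU : ∀ a x, dU (a + 1) (dU a x) = 0) (hdV : ∀ b y, dV (b + 1) (dV b y) = 0)
  (U' : ∀ a, Submodule k (U a)) (hU' : ∀ a x, x ∈ U' a → dU a x ∈ U' (a + 1))
  (V' : ∀ b, Submodule k (V b)) (hV' : ∀ b y, y ∈ V' b → dV b y ∈ V' (b + 1))
  (hexU : ∀ a, LinearMap.ker (dU (a + 1)) = LinearMap.range (dU a))
  (hexV : ∀ b, LinearMap.ker (dV (b + 1)) = LinearMap.range (dV b))
  {a b M : ℕ} (hM : a + b + 1 = M)

include hexU hexV hU' hV' in
/-- `β` is surjective when the cohomology of the subcomplexes vanishes above `a + 2`, `b + 2` -/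
theorem beta_surjective (hvU : ∀ i, a + 2 < i → Subsingleton (Hs dU U' i))
    (hvV : ∀ j, b + 2 < j → Subsingleton (Hs dV V' j)) :
    Function.Surjective (beta dU dV hdU hdV U' V' hM) := by
  intro c
  obtain ⟨⟨w, hw1, hw2⟩, rfl⟩ := Submodule.Quotient.mk_surjective _ c
  obtain ⟨ω, rfl⟩ := tot_exact dU dV hdU hdV hexU hexV (M + 1) hw2
  obtain ⟨HU''⟩ := exists_hdata (qd dU U' hU') (qd_qd dU U' hU' hdU)
  obtain ⟨HV''⟩ := exists_hdata (qd dV V' hV') (qd_qd dV V' hV' hdV)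
  obtain ⟨lU, hlU⟩ := exists_lambda dU U' hU' a HU''
  obtain ⟨lV, hlV⟩ := exists_lambda dV V' hV' b HV''
  let HY := totHData HU'' HV''
  let y := pp U' V' (M + 1) ω
  have hy : TotD (qd dU U' hU') (qd dV V' hV') (M + 1) y = 0 := by
    rw [← pp_D dU dV U' hU' V' hV']
    exact LinearMap.mem_ker.1 hw1
  have h1 := HY.homS M y
  rw [hy, map_zero, add_zero] at h1
  have hab : a + 1 + (b + 1) = M + 1 := by omega
  have h2 : HY.Q (M + 1) y = inc hab (TensorProduct.map (HU''.Q (a + 1)) (HV''.Q (b + 1))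
      (y ⟨(a + 1, b + 1), hab⟩)) := by
    apply TotMap_eq_inc
    intro a' b' hab' hne
    by_cases h3 : a + 2 ≤ a'
    · left
      exact LinearMap.ext (Q_quot_eq_zero dU hdU U' hU' hexU a hvU HU'' a' h3)
    · right
      have h4 : b + 2 ≤ b' := by omega
      exact LinearMap.ext (Q_quot_eq_zero dV hdV V' hV' hexV b hvV HV'' b' h4)
  let t' : ↥(WW dU U' a) ⊗[k] ↥(WW dV V' b) :=
    TensorProduct.map lU lV (y ⟨(a + 1, b + 1), hab⟩)
  obtain ⟨ν, hν⟩ := pp_surjective U' V' M (HY.K M y)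
  refine ⟨t', ?_⟩
  -- compare `ω` with the lift of `t'`
  let ω' : TotX k U V (M + 1) :=
    inc hab (TensorProduct.map (WW dU U' a).subtype (WW dV V' b).subtype t')
  have h5 : pp U' V' (M + 1) ω' = HY.Q (M + 1) y := by
    rw [h2]
    change TotMap _ _ (M + 1) (inc hab _) = _
    rw [TotMap_inc]
    congr 1
    change (TensorProduct.map _ _ ∘ₗ TensorProduct.map _ _ ∘ₗ TensorProduct.map lU lV) _ = _
    rw [← TensorProduct.map_comp, ← TensorProduct.map_comp]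
    congr 1
    · exact congrArg₂ _ (LinearMap.ext hlU) (LinearMap.ext hlV)
  have h6 : ω - ω' - TotD dU dV M ν ∈ GG U' V' (M + 1) := by
    rw [LinearMap.mem_ker, map_sub, map_sub, h5, pp_D dU dV U' hU' V' hV', hν]
    change y - HY.Q (M + 1) y - _ = 0
    rw [h1, sub_self]
  change Submodule.Quotient.mk _ = Submodule.Quotient.mk _
  rw [Submodule.Quotient.eq]
  refine ⟨-(ω - ω' - TotD dU dV M ν), Submodule.neg_mem _ h6, ?_⟩
  change _ = TotD dU dV (M + 1) ω' - TotD dU dV (M + 1) ω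
  rw [map_neg, map_sub, map_sub, TotD_TotD dU dV hdU hdV]
  abel

include hdU in
/-- the harmonic representative detects the class -/
theorem clsW_eq_zero_of_Q (H'' : HData (qd dU U' hU')) (ξ : ↥(WW dU U' a))
    (h : H''.Q (a + 1) ((U' (a + 1)).mkQ ξ.1) = 0) : clsW dU hdU U' a ξ = 0 := by
  have hz : qd dU U' hU' (a + 1) ((U' (a + 1)).mkQ ξ.1) = 0 := by
    rw [qd_mk, Submodule.mkQ_apply, Submodule.Quotient.mk_eq_zero]
    exact ξ.2
  have h1 := H''.eq_D_of_mem_ker a _ hz h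
  obtain ⟨ζ, hζ⟩ := Submodule.mkQ_surjective _ (H''.K a ((U' (a + 1)).mkQ ξ.1))
  rw [← hζ, qd_mk] at h1
  rw [clsW_eq_zero_iff]
  refine ⟨ξ.1 - dU a ζ, ?_, ?_⟩
  · have h2 : (U' (a + 1)).mkQ (ξ.1 - dU a ζ) = 0 := by rw [map_sub, h1, sub_self]
    rwa [Submodule.mkQ_apply, Submodule.Quotient.mk_eq_zero] at h2
  · rw [sub_sub_cancel, hdU]

include hexU hexV hU' hV' in
/-- the top Künneth map is injective -/
theorem Psi_injective
    (Ψ : Hs dU U' (a + 2) ⊗[k] Hs dV V' (b + 2) →ₗ[k] Hs (TotD dU dV) (GG U' V') (M + 1 + 1))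
    (hΨ : Ψ ∘ₗ TensorProduct.map (clsW dU hdU U' a) (clsW dV hdV V' b) =
      beta dU dV hdU hdV U' V' hM) : Function.Injective Ψ := by
  obtain ⟨sU, hsU⟩ := (clsW dU hdU U' a).exists_rightInverse_of_surjective
    (LinearMap.range_eq_top.2 (clsW_surjective dU hdU U' hexU a))
  obtain ⟨sV, hsV⟩ := (clsW dV hdV V' b).exists_rightInverse_of_surjective
    (LinearMap.range_eq_top.2 (clsW_surjective dV hdV V' hexV b))
  obtain ⟨HU''⟩ := exists_hdata (qd dU U' hU') (qd_qd dU U' hU' hdU)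
  obtain ⟨HV''⟩ := exists_hdata (qd dV V' hV') (qd_qd dV V' hV' hdV)
  let HY := totHData HU'' HV''
  have hab : a + 1 + (b + 1) = M + 1 := by omega
  -- the harmonic representative maps
  let θU : Hs dU U' (a + 2) →ₗ[k] (U (a + 1) ⧸ U' (a + 1)) :=
    HU''.Q (a + 1) ∘ₗ (U' (a + 1)).mkQ ∘ₗ (WW dU U' a).subtype ∘ₗ sU
  let θV : Hs dV V' (b + 2) →ₗ[k] (V (b + 1) ⧸ V' (b + 1)) :=
    HV''.Q (b + 1) ∘ₗ (V' (b + 1)).mkQ ∘ₗ (WW dV V' b).subtype ∘ₗ sV
  have hθU : Function.Injective θU := by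
    rw [← LinearMap.ker_eq_bot, LinearMap.ker_eq_bot']
    intro c hc
    have := clsW_eq_zero_of_Q dU hdU U' hU' HU'' (sU c) hc
    rw [← LinearMap.comp_apply, hsU] at this
    exact this
  have hθV : Function.Injective θV := by
    rw [← LinearMap.ker_eq_bot, LinearMap.ker_eq_bot']
    intro c hc
    have := clsW_eq_zero_of_Q dV hdV V' hV' HV'' (sV c) hc
    rw [← LinearMap.comp_apply, hsV] at this
    exact this
  have hθ : Function.Injective (TensorProduct.map θU θV) :=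
    TensorProduct.map_injective_of_flat_flat θU θV hθU hθV
  rw [← LinearMap.ker_eq_bot, LinearMap.ker_eq_bot']
  intro τ hτ
  apply hθ
  rw [map_zero]
  let t' : ↥(WW dU U' a) ⊗[k] ↥(WW dV V' b) := TensorProduct.map sU sV τ
  have ht' : TensorProduct.map (clsW dU hdU U' a) (clsW dV hdV V' b) t' = τ := by
    change (TensorProduct.map _ _ ∘ₗ TensorProduct.map sU sV) τ = τ
    rw [← TensorProduct.map_comp, hsU, hsV, TensorProduct.map_id, LinearMap.id_apply]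
  have hβ : beta dU dV hdU hdV U' V' hM t' = 0 := by
    rw [← hΨ, LinearMap.comp_apply, ht', hτ]
  let ω' : TotX k U V (M + 1) :=
    inc hab (TensorProduct.map (WW dU U' a).subtype (WW dV V' b).subtype t')
  have hLW : LW dU dV U' V' hM t' = TotD dU dV (M + 1) ω' := rfl
  have hcb : LW dU dV U' V' hM t' ∈ cobdy (TotD dU dV) (GG U' V') (M + 1 + 1) := by
    have : (Submodule.Quotient.mk ⟨LW dU dV U' V' hM t', LW_mem dU dV hdU hdV U' V' hM t'⟩ :
        Hs (TotD dU dV) (GG U' V') (M + 1 + 1)) = 0 := hβ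
    rwa [Submodule.Quotient.mk_eq_zero] at this
  obtain ⟨g, hg, hgD⟩ := hcb
  have hker : ω' - g ∈ LinearMap.ker (TotD dU dV (M + 1)) := by
    rw [LinearMap.mem_ker, map_sub, ← hLW, hgD, sub_self]
  obtain ⟨ν, hν⟩ := tot_exact dU dV hdU hdV hexU hexV M hker
  have hpp : pp U' V' (M + 1) ω' =
      TotD (qd dU U' hU') (qd dV V' hV') M (pp U' V' M ν) := by
    rw [← pp_D dU dV U' hU' V' hV', hν, map_sub, LinearMap.mem_ker.1 hg, sub_zero]
  have hQ : HY.Q (M + 1) (pp U' V' (M + 1) ω') = 0 := by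
    rw [hpp]
    exact HY.QD M _
  have hQ' : HY.Q (M + 1) (pp U' V' (M + 1) ω') =
      inc hab (TensorProduct.map θU θV τ) := by
    change TotMap HU''.Q HV''.Q (M + 1) (TotMap _ _ (M + 1) (inc hab _)) = _
    rw [TotMap_inc, TotMap_inc]
    congr 1
    change (TensorProduct.map _ _ ∘ₗ TensorProduct.map _ _ ∘ₗ TensorProduct.map _ _ ∘ₗ
      TensorProduct.map sU sV) τ = _
    rw [← TensorProduct.map_comp, ← TensorProduct.map_comp, ← TensorProduct.map_comp]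
  rw [hQ'] at hQ
  have := congrFun hQ ⟨(a + 1, b + 1), hab⟩
  rw [inc_apply_same] at this
  exact this

include hexU hexV hU' hV' in
/-- **The natural top-degree Künneth isomorphism.**  `Ψ ([dξ] ⊗ [dη]) = [D (ξ ⊗ η)]`. -/
theorem topKun (hvU : ∀ i, a + 2 < i → Subsingleton (Hs dU U' i))
    (hvV : ∀ j, b + 2 < j → Subsingleton (Hs dV V' j)) :
    ∃ Ψ : (Hs dU U' (a + 2) ⊗[k] Hs dV V' (b + 2)) ≃ₗ[k]
        Hs (TotD dU dV) (GG U' V') (M + 1 + 1),
      ∀ (ξ : U (a + 1)) (η : V (b + 1)) (hξ : ξ ∈ WW dU U' a) (hη : η ∈ WW dV V' b),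
        Ψ ((Submodule.Quotient.mk ⟨dU (a + 1) ξ, d_mem_cocyc dU hdU U' hξ⟩ :
              Hs dU U' (a + 2)) ⊗ₜ[k]
            (Submodule.Quotient.mk ⟨dV (b + 1) η, d_mem_cocyc dV hdV V' hη⟩ :
              Hs dV V' (b + 2))) =
          Submodule.Quotient.mk ⟨TotD dU dV (M + 1)
            (inc (show a + 1 + (b + 1) = M + 1 by omega) (ξ ⊗ₜ[k] η)),
            D_inc_mem_cocyc dU dV hdU hdV U' V' hM ξ η hξ hη⟩ := by
  obtain ⟨Ψ, hΨ⟩ := exists_Psi dU dV hdU hdV U' hU' V' hV' hM hexU hexV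
  have hinj := Psi_injective dU dV hdU hdV U' hU' V' hV' hexU hexV hM Ψ hΨ
  have hsurj : Function.Surjective Ψ := by
    intro c
    obtain ⟨t, rfl⟩ := beta_surjective dU dV hdU hdV U' hU' V' hV' hexU hexV hM hvU hvV c
    refine ⟨TensorProduct.map (clsW dU hdU U' a) (clsW dV hdV V' b) t, ?_⟩
    rw [← hΨ]
    rfl
  refine ⟨LinearEquiv.ofBijective Ψ ⟨hinj, hsurj⟩, ?_⟩
  intro ξ η hξ hη
  have := LinearMap.congr_fun hΨ ((⟨ξ, hξ⟩ : ↥(WW dU U' a)) ⊗ₜ[k] (⟨η, hη⟩ : ↥(WW dV V' b)))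
  rw [LinearMap.comp_apply, TensorProduct.map_tmul, beta_tmul] at this
  exact this

end Bijective

end Groth.Agent.H98.Kun
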