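import Mathlib
import Groth.Agent.H81.Kun.Defs
import Groth.Agent.H81.Seg.TopKunDef
import Groth.Agent.H98.Kun.TopKun

set_option autoImplicit false
set_option linter.unusedSimpArgs false
universe u

/-!
# `TopKunMain k` (the statement of `H81/Seg/TopKunDef.lean`) from `H98.Kun.topKun`
-/

namespace Groth.Agent.H98.Kun

open Groth.Agent.H81.Kun
open scoped TensorProduct

theorem topKunMain (k : Type u) [Field k] : Groth.Agent.H81.Seg.TopKunMain k := by
  intro U _ _ V _ _ dU dV hdU hdV U' hU' V' hV' hexU hexV r s n hr hs hn hvU hvV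
  obtain ⟨a, rfl⟩ : ∃ a, r = a + 1 := ⟨r - 1, by omega⟩
  obtain ⟨b, rfl⟩ : ∃ b, s = b + 1 := ⟨s - 1, by omega⟩
  obtain rfl : n = a + b + 1 + 1 + 1 := by omega
  obtain ⟨Ψ, hΨ⟩ := topKun dU dV hdU hdV U' hU' V' hV' hexU hexV (a := a) (b := b)
    (M := a + b + 1) rfl (fun i hi => hvU i (by omega)) (fun j hj => hvV j (by omega))
  have hunit : IsUnit ((-1 : k) ^ (a + 1)) := (isUnit_one.neg).pow _
  refine ⟨((-1 : k) ^ (a + 1)) • Ψ.toLinearMap, ?_, ?_⟩
  · constructor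
    · intro t t' h
      have h' : ((-1 : k) ^ (a + 1)) • Ψ t = ((-1 : k) ^ (a + 1)) • Ψ t' := h
      exact Ψ.injective (hunit.smul_left_cancel.1 h')
    · intro c
      obtain ⟨u, hu⟩ := hunit
      obtain ⟨t, ht⟩ := Ψ.surjective ((↑u⁻¹ : k) • c)
      refine ⟨t, ?_⟩
      change ((-1 : k) ^ (a + 1)) • Ψ t = c
      rw [ht, ← hu, smul_smul, Units.mul_inv, one_smul]
  · rintro ⟨x0, hx0⟩ ⟨y0, hy0⟩ ξ η hξ hη hw
    change dU (a + 1) ξ = x0 at hξ
    change dV (b + 1) η = y0 at hη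
    subst hξ
    subst hη
    have hξW : ξ ∈ WW dU U' a := hx0.1
    have hηW : η ∈ WW dV V' b := hy0.1
    have h1 := hΨ ξ η hξW hηW
    change ((-1 : k) ^ (a + 1)) • Ψ _ = _
    refine (congrArg (fun z => ((-1 : k) ^ (a + 1)) • z) h1).trans ?_
    change Submodule.Quotient.mk (((-1 : k) ^ (a + 1)) • _) = Submodule.Quotient.mk _
    congr 1
    apply Subtype.ext
    change ((-1 : k) ^ (a + 1)) • TotD dU dV (a + b + 1 + 1) (inc _ (ξ ⊗ₜ[k] η)) =
      inc _ (ξ ⊗ₜ[k] dV (b + 1) η) - ((-1 : k) ^ (a + 1 + 1)) • inc _ (dU (a + 1) ξ ⊗ₜ[k] η)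
    rw [TotD_inc_tmul, smul_add, smul_smul, neg_one_pow_mul_self', one_smul, pow_succ (-1 : k) (a + 1),
      mul_neg_one, neg_smul, sub_neg_eq_add]
    exact add_comm _ _

end Groth.Agent.H98.Kun
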